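import Mathlib
import Groth.Agent.Lib.Helper3.FiniteEtaleLift

/-!
# Étale neighbourhoods of a prime (ring level)

`EtNbhd K q` : an étale `K`-algebra (in the universe of `K`) together with a prime over `q`.
Composition, principal localizations, adjoining a square root of a unit (when `2` is a unit),
faithfully flat étale algebras.  The image of `Spec` of an étale algebra is open.
-/

set_option autoImplicit false
set_option linter.style.haveILetI false

open Polynomial

namespace Groth.Agent.Lib.Helper1.AzInvLib

universe u

/-- An étale neighbourhood of the prime `q` of `K`. -/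
structure EtNbhd (K : Type u) [CommRing K] (q : PrimeSpectrum K) where
  carrier : Type u
  [cr : CommRing carrier]
  [alg : Algebra K carrier]
  [et : Algebra.Etale K carrier]
  pt : PrimeSpectrum carrier
  hpt : PrimeSpectrum.comap (algebraMap K carrier) pt = q

attribute [instance] EtNbhd.cr EtNbhd.alg EtNbhd.et

namespace EtNbhd

variable {K : Type u} [CommRing K] {q : PrimeSpectrum K}

/-- the trivial neighbourhood -/
def refl (K : Type u) [CommRing K] (q : PrimeSpectrum K) : EtNbhd K q where
  carrier := K
  pt := q
  hpt := by ext x; simp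

/-- composition of étale neighbourhoods -/
def trans (N : EtNbhd K q) (N' : EtNbhd N.carrier N.pt) : EtNbhd K q :=
  letI : Algebra K N'.carrier :=
    ((algebraMap N.carrier N'.carrier).comp (algebraMap K N.carrier)).toAlgebra
  haveI : IsScalarTower K N.carrier N'.carrier := IsScalarTower.of_algebraMap_eq fun _ => rfl
  haveI : Algebra.Etale K N'.carrier := Algebra.Etale.comp K N.carrier N'.carrier
  { carrier := N'.carrier
    pt := N'.pt
    hpt := by
      have h1 := N.hpt
      have h2 := N'.hpt
      calc PrimeSpectrum.comap (algebraMap K N'.carrier) N'.pt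
          = PrimeSpectrum.comap (algebraMap K N.carrier)
              (PrimeSpectrum.comap (algebraMap N.carrier N'.carrier) N'.pt) := rfl
        _ = q := by rw [h2, h1] }

theorem trans_algebraMap (N : EtNbhd K q) (N' : EtNbhd N.carrier N.pt) :
    algebraMap K (N.trans N').carrier =
      (algebraMap N.carrier N'.carrier).comp (algebraMap K N.carrier) := rfl

theorem not_mem_pt (N : EtNbhd K q) {x : K} (hx : x ∉ q.asIdeal) :
    algebraMap K N.carrier x ∉ N.pt.asIdeal := by
  intro h
  apply hx
  rw [← N.hpt]
  exact h

theorem isUnit_two (N : EtNbhd K q) (h2 : IsUnit (2 : K)) : IsUnit (2 : N.carrier) := by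
  have := h2.map (algebraMap K N.carrier)
  rwa [map_ofNat] at this

/-- a principal localization at an element outside `q` -/
theorem exists_away (s : K) (hs : s ∉ q.asIdeal) :
    ∃ N : EtNbhd K q, IsUnit (algebraMap K N.carrier s) := by
  have hdisj : Disjoint (Submonoid.powers s : Set K) (q.asIdeal : Set K) :=
    (Ideal.disjoint_powers_iff_notMem_of_isPrime _).2 hs
  let Q0 : Ideal (Localization.Away s) := Ideal.map (algebraMap K (Localization.Away s)) q.asIdeal
  have hQ0 : Q0.IsPrime :=
    IsLocalization.isPrime_of_isPrime_disjoint (Submonoid.powers s) (Localization.Away s) _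
      q.isPrime hdisj
  have hQ0u : Q0.comap (algebraMap K (Localization.Away s)) = q.asIdeal :=
    IsLocalization.under_map_of_isPrime_disjoint (Submonoid.powers s) (Localization.Away s)
      q.isPrime hdisj
  haveI : Algebra.Etale K (Localization.Away s) := Algebra.Etale.of_isLocalizationAway s
  exact ⟨{ carrier := Localization.Away s
           pt := ⟨Q0, hQ0⟩
           hpt := PrimeSpectrum.ext hQ0u }, IsLocalization.Away.algebraMap_isUnit s⟩

/-- a faithfully flat étale algebra gives a neighbourhood of every prime -/
theorem exists_of_faithfullyFlat (K' : Type u) [CommRing K'] [Algebra K K'] [Algebra.Etale K K']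
    [Module.FaithfullyFlat K K'] : ∃ N : EtNbhd K q, N.carrier = K' := by
  obtain ⟨q', hq'⟩ := PrimeSpectrum.comap_surjective_of_faithfullyFlat (A := K) (B := K') q
  exact ⟨{ carrier := K', pt := q', hpt := hq' }, rfl⟩

/-- adjoining a square root of a unit, `2` being a unit -/
theorem exists_sqrt (h2 : IsUnit (2 : K)) (d : K) (hd : IsUnit d) :
    ∃ N : EtNbhd K q, ∃ y : N.carrier, y * y = algebraMap K N.carrier d := by
  haveI : Nontrivial K := q.nontrivial
  set g : K[X] := X ^ 2 - C d with hg
  have hm : g.Monic := monic_X_pow_sub_C d (by norm_num)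
  have hdeg : g.natDegree = 2 := natDegree_X_pow_sub_C
  have hroot : (AdjoinRoot.root g) ^ 2 = AdjoinRoot.of g d := by
    have h := AdjoinRoot.eval₂_root g
    rw [hg, eval₂_sub, eval₂_pow, eval₂_X, eval₂_C, sub_eq_zero] at h
    exact h
  have hunit : IsUnit (AdjoinRoot.mk g (derivative g)) := by
    obtain ⟨c, hc⟩ := h2.exists_right_inv
    obtain ⟨d', hd'⟩ := hd.exists_right_inv
    have hder : derivative g = C 2 * X := by
      rw [hg, derivative_sub, derivative_C, sub_zero, derivative_X_pow]
      norm_num
    refine IsUnit.of_mul_eq_one (AdjoinRoot.of g (c * d') * AdjoinRoot.root g) ?_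
    rw [hder, map_mul, AdjoinRoot.mk_C, AdjoinRoot.mk_X]
    calc AdjoinRoot.of g 2 * AdjoinRoot.root g * (AdjoinRoot.of g (c * d') * AdjoinRoot.root g)
        = AdjoinRoot.of g 2 * AdjoinRoot.of g (c * d') * (AdjoinRoot.root g) ^ 2 := by ring
      _ = 1 := by
        rw [hroot, ← map_mul, ← map_mul]
        have : 2 * (c * d') * d = 1 := by
          calc 2 * (c * d') * d = (2 * c) * (d * d') := by ring
            _ = 1 := by rw [hc, hd', one_mul]
        rw [this, map_one]
  haveI het : Algebra.Etale K (AdjoinRoot g) :=
    Groth.Agent.Lib.Helper3.etale_adjoinRoot_of_isUnit g hm hunit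
  haveI hfinE : Module.Finite K (AdjoinRoot g) := hm.finite_adjoinRoot
  haveI hfreeE : Module.Free K (AdjoinRoot g) := hm.free_adjoinRoot
  have hrkE : Module.finrank K (AdjoinRoot g) = 2 := by
    rw [(AdjoinRoot.powerBasis' hm).finrank, AdjoinRoot.powerBasis'_dim, hdeg]
  haveI hntE : Nontrivial (AdjoinRoot g) :=
    Module.nontrivial_of_finrank_pos (R := K) (by rw [hrkE]; norm_num)
  haveI : Module.FaithfullyFlat K (AdjoinRoot g) := inferInstance
  obtain ⟨q', hq'⟩ :=
    PrimeSpectrum.comap_surjective_of_faithfullyFlat (A := K) (B := AdjoinRoot g) q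
  refine ⟨{ carrier := AdjoinRoot g, pt := q', hpt := hq' }, AdjoinRoot.root g, ?_⟩
  rw [← pow_two]
  exact hroot

end EtNbhd

/-- the image of `Spec` of an étale algebra is open -/
theorem isOpen_range_comap_of_etale (K K' : Type u) [CommRing K] [CommRing K'] [Algebra K K']
    [Algebra.Etale K K'] : IsOpen (Set.range (PrimeSpectrum.comap (algebraMap K K'))) := by
  have h := PrimeSpectrum.isOpenMap_comap_of_hasGoingDown_of_finitePresentation (R := K) (S := K')
  exact h.isOpen_range

end Groth.Agent.Lib.Helper1.AzInvLib
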