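import Mathlib
import Groth.Agent.Lib.Helper1.AzInv.EtNbhd

/-!
# The bilinear form of a matrix: basic lemmas used for Gram–Schmidt near a prime
-/

set_option autoImplicit false
set_option linter.style.haveILetI false
set_option linter.unusedSectionVars false

open Matrix

namespace Groth.Agent.Lib.Helper1.AzInvLib

section Form

variable {K K' : Type*} [CommRing K] [CommRing K'] {ι : Type*} [Fintype ι] [DecidableEq ι]

/-- the bilinear form `(x, y) ↦ xᵀ u y` -/
def B (u : Matrix ι ι K) (x y : ι → K) : K := x ⬝ᵥ (u *ᵥ y)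

theorem B_add_left (u : Matrix ι ι K) (x x' y : ι → K) : B u (x + x') y = B u x y + B u x' y := by
  simp only [B, add_dotProduct]

theorem B_add_right (u : Matrix ι ι K) (x y y' : ι → K) : B u x (y + y') = B u x y + B u x y' := by
  simp only [B, Matrix.mulVec_add, dotProduct_add]

theorem B_sub_left (u : Matrix ι ι K) (x x' y : ι → K) : B u (x - x') y = B u x y - B u x' y := by
  simp only [B, sub_dotProduct]

theorem B_sub_right (u : Matrix ι ι K) (x y y' : ι → K) : B u x (y - y') = B u x y - B u x y' := by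
  simp only [B, Matrix.mulVec_sub, dotProduct_sub]

theorem B_smul_left (u : Matrix ι ι K) (c : K) (x y : ι → K) : B u (c • x) y = c * B u x y := by
  simp only [B, smul_dotProduct, smul_eq_mul]

theorem B_smul_right (u : Matrix ι ι K) (c : K) (x y : ι → K) : B u x (c • y) = c * B u x y := by
  simp only [B, Matrix.mulVec_smul, dotProduct_smul, smul_eq_mul]

theorem B_sum_left {κ : Type*} (s : Finset κ) (u : Matrix ι ι K) (x : κ → ι → K) (y : ι → K) :
    B u (∑ i ∈ s, x i) y = ∑ i ∈ s, B u (x i) y := by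
  simp only [B, sum_dotProduct]

theorem B_sum_right {κ : Type*} (s : Finset κ) (u : Matrix ι ι K) (x : ι → K) (y : κ → ι → K) :
    B u x (∑ i ∈ s, y i) = ∑ i ∈ s, B u x (y i) := by
  simp only [B, Matrix.mulVec_sum, dotProduct_sum]

theorem B_transpose (u : Matrix ι ι K) (x y : ι → K) : B uᵀ x y = B u y x := by
  simp only [B]
  rw [Matrix.mulVec_transpose, dotProduct_comm, ← Matrix.dotProduct_mulVec]

theorem B_symm {u : Matrix ι ι K} (hu : uᵀ = u) (x y : ι → K) : B u x y = B u y x := by
  conv_lhs => rw [← hu]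
  exact B_transpose u x y

theorem B_skew {u : Matrix ι ι K} (hu : uᵀ = -u) (x y : ι → K) : B u x y = - B u y x := by
  have h : u = -uᵀ := by rw [hu, neg_neg]
  conv_lhs => rw [h]
  have : B (-uᵀ) x y = - B uᵀ x y := by
    simp only [B, Matrix.neg_mulVec, dotProduct_neg]
  rw [this, B_transpose]

theorem B_single_left (u : Matrix ι ι K) (l : ι) (z : ι → K) :
    B u (Pi.single l 1) z = (u *ᵥ z) l := by
  simp only [B, single_one_dotProduct]

theorem B_map (φ : K →+* K') (u : Matrix ι ι K) (x y : ι → K) :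
    B (u.map φ) (φ ∘ x) (φ ∘ y) = φ (B u x y) := by
  simp only [B]
  rw [RingHom.map_dotProduct]
  congr 1
  funext i
  exact (RingHom.map_mulVec φ u y i).symm

/-- Gram matrix -/
theorem gram_apply {κ : Type*} [Fintype κ] (u : Matrix ι ι K) (x : κ → ι → K) (p p' : κ) :
    ((Matrix.of x : Matrix κ ι K) * u * (Matrix.of x : Matrix κ ι K)ᵀ) p p' = B u (x p) (x p') := by
  rw [Matrix.mul_assoc, Matrix.mul_apply]
  simp only [B, dotProduct, Matrix.of_apply]
  refine Finset.sum_congr rfl fun a _ => ?_
  congr 1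

/-- nondegeneracy modulo a prime -/
theorem mem_of_mulVec_mem (q : Ideal K) [q.IsPrime] (u : Matrix ι ι K) (hdet : u.det ∉ q)
    (z : ι → K) (h : ∀ l, (u *ᵥ z) l ∈ q) (l : ι) : z l ∈ q := by
  have h1 : (u.adjugate * u) *ᵥ z = u.det • z := by
    rw [Matrix.adjugate_mul, Matrix.smul_mulVec, Matrix.one_mulVec]
  have h2 : (u.adjugate *ᵥ (u *ᵥ z)) l ∈ q := by
    rw [Matrix.mulVec, dotProduct]
    exact Ideal.sum_mem _ fun a _ => q.mul_mem_left _ (h a)
  rw [Matrix.mulVec_mulVec, h1, Pi.smul_apply, smul_eq_mul] at h2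
  exact (Ideal.IsPrime.mem_or_mem ‹_› h2).resolve_left hdet

/-- modulo a prime, the standard free module of rank `card ι` is not spanned by fewer vectors -/
theorem false_of_span_mod {κ : Type*} [Fintype κ] (q : Ideal K) [q.IsPrime]
    (V : κ → ι → K) (c : κ → (ι → K) → K)
    (h : ∀ (x : ι → K) (l : ι), x l - ∑ i, c i x * V i l ∈ q)
    (hcard : Fintype.card κ < Fintype.card ι) : False := by
  classical
  let F := q.ResidueField
  let ψ : K →+* F := algebraMap K F
  have hψ : ∀ x, x ∈ q → ψ x = 0 := fun x hx => Ideal.algebraMap_residueField_eq_zero.2 hx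
  let A : Matrix ι κ F := Matrix.of fun m i => ψ (c i (Pi.single m 1))
  let Bm : Matrix κ ι F := Matrix.of fun i l => ψ (V i l)
  have hAB : A * Bm = 1 := by
    ext m l
    rw [Matrix.mul_apply]
    have := hψ _ (h (Pi.single m 1) l)
    rw [map_sub, map_sum, sub_eq_zero] at this
    simp only [A, Bm, Matrix.of_apply]
    rw [Matrix.one_apply]
    rw [← this.trans (Finset.sum_congr rfl fun i _ => map_mul ψ _ _)]
    by_cases hml : m = l
    · subst hml; simp
    · simp [hml, Pi.single_apply, Ne.symm hml]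
  have h1 : (A * Bm).rank ≤ Fintype.card κ :=
    (Matrix.rank_mul_le_left A Bm).trans (Matrix.rank_le_card_width A)
  rw [hAB, Matrix.rank_one] at h1
  omega

end Form

end Groth.Agent.Lib.Helper1.AzInvLib
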