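import Mathlib
import Groth.Agent.Lib.Helper1.AzInv.Gram

/-!
# Orthonormal bases étale-locally near a prime (2 invertible)
-/

set_option autoImplicit false
set_option linter.style.haveILetI false
set_option linter.unusedSectionVars false

open Matrix

namespace Groth.Agent.Lib.Helper1.AzInvLib

universe u

section Step

variable {K : Type*} [CommRing K] {ι : Type*} [Fintype ι] [DecidableEq ι]

theorem exists_next_orth (q : Ideal K) [hq : q.IsPrime] (h2 : (2 : K) ∉ q)
    (u : Matrix ι ι K) (hs : uᵀ = u) (hdet : u.det ∉ q) {k : ℕ} (hk : k < Fintype.card ι)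
    (v : Fin k → ι → K) (hv : ∀ i j, B u (v i) (v j) = if i = j then 1 else 0) :
    ∃ w : ι → K, (∀ i, B u w (v i) = 0) ∧ B u w w ∉ q := by
  by_contra hcon
  push Not at hcon
  set π : (ι → K) → (ι → K) := fun x => x - ∑ i, B u x (v i) • v i with hπ
  have hπv : ∀ x j, B u (π x) (v j) = 0 := by
    intro x j
    simp only [hπ]
    rw [B_sub_left, B_sum_left]
    have : ∑ i, B u (B u x (v i) • v i) (v j) = B u x (v j) := by
      rw [Finset.sum_eq_single j]
      · rw [B_smul_left, hv, if_pos rfl, mul_one]
      · intro i _ hij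
        rw [B_smul_left, hv, if_neg hij, mul_zero]
      · intro h; exact absurd (Finset.mem_univ j) h
    rw [this, sub_self]
  have hπadd : ∀ x y, π (x + y) = π x + π y := by
    intro x y
    simp only [hπ]
    have : ∑ i, B u (x + y) (v i) • v i = ∑ i, B u x (v i) • v i + ∑ i, B u y (v i) • v i := by
      rw [← Finset.sum_add_distrib]
      exact Finset.sum_congr rfl fun i _ => by rw [B_add_left, add_smul]
    rw [this]
    abel
  have hqq : ∀ x, B u (π x) (π x) ∈ q := fun x => hcon _ (hπv x)
  have hpol : ∀ x y, B u (π x) (π y) ∈ q := by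
    intro x y
    have h := hqq (x + y)
    rw [hπadd, B_add_left, B_add_right, B_add_right] at h
    have hsym : B u (π y) (π x) = B u (π x) (π y) := B_symm hs _ _
    have h2m : 2 * B u (π x) (π y) ∈ q := by
      have e : 2 * B u (π x) (π y) = (B u (π x) (π x) + B u (π x) (π y) +
          (B u (π y) (π x) + B u (π y) (π y))) - B u (π x) (π x) - B u (π y) (π y) := by
        rw [hsym]; ring
      rw [e]
      exact q.sub_mem (q.sub_mem h (hqq x)) (hqq y)
    exact (hq.mem_or_mem h2m).resolve_left h2
  have hπy : ∀ x y, B u (π x) y ∈ q := by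
    intro x y
    have : B u (π x) (π y) = B u (π x) y := by
      conv_lhs => rw [hπ]
      simp only
      rw [B_sub_right, B_sum_right]
      have : ∑ i, B u (π x) (B u y (v i) • v i) = 0 := by
        refine Finset.sum_eq_zero fun i _ => ?_
        rw [B_smul_right, hπv, mul_zero]
      rw [this, sub_zero]
    rw [← this]
    exact hpol x y
  have hz : ∀ x l, (π x) l ∈ q := by
    intro x
    apply mem_of_mulVec_mem q u hdet
    intro l
    rw [← B_single_left, B_symm hs]
    exact hπy x _
  refine false_of_span_mod q v (fun i x => B u x (v i)) (fun x l => ?_) (by simpa using hk)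
  have := hz x l
  simpa [hπ, Finset.sum_apply] using this

end Step

section Induct

variable {K : Type u} [CommRing K] {ι : Type*} [Fintype ι] [DecidableEq ι]

theorem exists_orthonormal (h2 : IsUnit (2 : K)) (q : PrimeSpectrum K)
    (u : Matrix ι ι K) (hs : uᵀ = u) (hdet : u.det ∉ q.asIdeal) :
    ∀ k, k ≤ Fintype.card ι → ∃ N : EtNbhd K q, ∃ v : Fin k → ι → N.carrier,
      ∀ i j, B (u.map (algebraMap K N.carrier)) (v i) (v j) = if i = j then 1 else 0 := by
  intro k
  induction k with
  | zero => intro _; exact ⟨EtNbhd.refl K q, Fin.elim0, fun i => i.elim0⟩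
  | succ k ih =>
    intro hk
    obtain ⟨N, v, hv⟩ := ih (by omega)
    set u' := u.map (algebraMap K N.carrier) with hu'
    have hs' : u'ᵀ = u' := by rw [hu', ← Matrix.transpose_map, hs]
    have hdet' : u'.det ∉ N.pt.asIdeal := by
      have : u'.det = algebraMap K N.carrier u.det := (RingHom.map_det _ _).symm
      rw [this]
      exact N.not_mem_pt hdet
    have h2N : IsUnit (2 : N.carrier) := N.isUnit_two h2
    have h2' : (2 : N.carrier) ∉ N.pt.asIdeal := fun h =>
      N.pt.isPrime.ne_top (Ideal.eq_top_of_isUnit_mem _ h h2N)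
    obtain ⟨w, hwv, hww⟩ := exists_next_orth N.pt.asIdeal h2' u' hs' hdet' (by omega) v hv
    obtain ⟨N1, hc⟩ := EtNbhd.exists_away (q := N.pt) (B u' w w) hww
    obtain ⟨N2, y, hy⟩ := EtNbhd.exists_sqrt (q := N1.pt) (N1.isUnit_two h2N) _ hc
    let φ : N.carrier →+* N2.carrier :=
      (algebraMap N1.carrier N2.carrier).comp (algebraMap N.carrier N1.carrier)
    have hyφ : y * y = φ (B u' w w) := hy
    have hcu : IsUnit (φ (B u' w w)) := hc.map (algebraMap N1.carrier N2.carrier)
    have hyu : IsUnit y := isUnit_of_mul_isUnit_left (by rw [hyφ]; exact hcu)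
    obtain ⟨yi, hyi⟩ := hyu.exists_left_inv
    refine ⟨N.trans (N1.trans N2), ?_⟩
    change ∃ v : Fin (k + 1) → ι → N2.carrier, ∀ i j, B (u'.map φ) (v i) (v j) = if i = j then 1 else 0
    let vnew : Fin (k + 1) → ι → N2.carrier :=
      Fin.snoc (α := fun _ => ι → N2.carrier) (fun i => φ ∘ v i) (yi • (φ ∘ w))
    refine ⟨vnew, ?_⟩
    intro i j
    refine Fin.lastCases ?_ (fun i => ?_) i <;> refine Fin.lastCases ?_ (fun j => ?_) j
    · simp only [vnew, Fin.snoc_last, if_pos rfl]
      rw [B_smul_left, B_smul_right, B_map, ← hyφ]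
      calc yi * (yi * (y * y)) = (yi * y) * (yi * y) := by ring
        _ = 1 := by rw [hyi, one_mul]
    · simp only [vnew, Fin.snoc_last, Fin.snoc_castSucc]
      rw [if_neg (Fin.castSucc_lt_last j).ne', B_smul_left, B_map, hwv, map_zero, mul_zero]
    · simp only [vnew, Fin.snoc_last, Fin.snoc_castSucc]
      rw [if_neg (Fin.castSucc_lt_last i).ne, B_smul_right, B_map, B_symm hs', hwv, map_zero,
        mul_zero]
    · simp only [vnew, Fin.snoc_castSucc]
      rw [B_map, hv]
      by_cases hij : i = j
      · subst hij; simp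
      · rw [if_neg hij, if_neg (fun h => hij (Fin.castSucc_inj.1 h)), map_zero]

end Induct

end Groth.Agent.Lib.Helper1.AzInvLib
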