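import Mathlib
import Groth.Agent.Lib.Helper1.AzInv.GramOrth

/-!
# Symplectic bases Zariski-locally near a prime (2 invertible), and the normal forms
-/

set_option autoImplicit false
set_option linter.style.haveILetI false
set_option linter.unusedSectionVars false

open Matrix

namespace Groth.Agent.Lib.Helper1.AzInvLib

universe u

section Step

variable {K : Type*} [CommRing K] {ι : Type*} [Fintype ι] [DecidableEq ι]

theorem B_self_of_skew (h2 : IsUnit (2 : K)) {u : Matrix ι ι K} (hu : uᵀ = -u) (x : ι → K) :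
    B u x x = 0 := by
  have h := B_skew hu x x
  have h' : 2 * B u x x = 0 := by
    calc 2 * B u x x = B u x x + B u x x := by ring
      _ = B u x x + - B u x x := by rw [← h]
      _ = 0 := by ring
  exact (h2.mul_right_eq_zero).1 h'

theorem exists_next_sympl (q : Ideal K) [hq : q.IsPrime]
    (u : Matrix ι ι K) (hs : uᵀ = -u) (hdet : u.det ∉ q) {k : ℕ} (hk : 2 * k < Fintype.card ι)
    (v w : Fin k → ι → K) (hvw : ∀ i j, B u (v i) (w j) = if i = j then 1 else 0)
    (hvv : ∀ i j, B u (v i) (v j) = 0) (hww : ∀ i j, B u (w i) (w j) = 0) :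
    ∃ x y : ι → K, (∀ i, B u x (v i) = 0) ∧ (∀ i, B u x (w i) = 0) ∧ (∀ i, B u y (v i) = 0) ∧
      (∀ i, B u y (w i) = 0) ∧ B u x y ∉ q := by
  by_contra hcon
  push Not at hcon
  have hwv : ∀ i j, B u (w i) (v j) = if i = j then -1 else 0 := by
    intro i j
    rw [B_skew hs, hvw]
    by_cases hij : i = j
    · subst hij; simp
    · rw [if_neg hij, if_neg (Ne.symm hij), neg_zero]
  set π : (ι → K) → (ι → K) := fun z =>
    z - ∑ i, B u z (w i) • v i + ∑ i, B u z (v i) • w i with hπ
  have hπv : ∀ z j, B u (π z) (v j) = 0 := by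
    intro z j
    simp only [hπ]
    rw [B_add_left, B_sub_left, B_sum_left, B_sum_left]
    have e1 : ∑ i, B u (B u z (w i) • v i) (v j) = 0 :=
      Finset.sum_eq_zero fun i _ => by rw [B_smul_left, hvv, mul_zero]
    have e2 : ∑ i, B u (B u z (v i) • w i) (v j) = - B u z (v j) := by
      rw [Finset.sum_eq_single j]
      · rw [B_smul_left, hwv, if_pos rfl, mul_neg, mul_one]
      · intro i _ hij
        rw [B_smul_left, hwv, if_neg hij, mul_zero]
      · intro h; exact absurd (Finset.mem_univ j) h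
    rw [e1, e2]; ring
  have hπw : ∀ z j, B u (π z) (w j) = 0 := by
    intro z j
    simp only [hπ]
    rw [B_add_left, B_sub_left, B_sum_left, B_sum_left]
    have e1 : ∑ i, B u (B u z (w i) • v i) (w j) = B u z (w j) := by
      rw [Finset.sum_eq_single j]
      · rw [B_smul_left, hvw, if_pos rfl, mul_one]
      · intro i _ hij
        rw [B_smul_left, hvw, if_neg hij, mul_zero]
      · intro h; exact absurd (Finset.mem_univ j) h
    have e2 : ∑ i, B u (B u z (v i) • w i) (w j) = 0 :=
      Finset.sum_eq_zero fun i _ => by rw [B_smul_left, hww, mul_zero]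
    rw [e1, e2]; ring
  have hpol : ∀ x y, B u (π x) (π y) ∈ q := fun x y =>
    hcon (π x) (π y) (hπv x) (hπw x) (hπv y) (hπw y)
  have hπy : ∀ x y, B u (π x) y ∈ q := by
    intro x y
    have : B u (π x) (π y) = B u (π x) y := by
      conv_lhs => rw [hπ]
      simp only
      rw [B_add_right, B_sub_right, B_sum_right, B_sum_right]
      have e1 : ∑ i, B u (π x) (B u y (w i) • v i) = 0 :=
        Finset.sum_eq_zero fun i _ => by rw [B_smul_right, hπv, mul_zero]
      have e2 : ∑ i, B u (π x) (B u y (v i) • w i) = 0 :=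
        Finset.sum_eq_zero fun i _ => by rw [B_smul_right, hπw, mul_zero]
      rw [e1, e2, sub_zero, add_zero]
    rw [← this]
    exact hpol x y
  have hz : ∀ x l, (π x) l ∈ q := by
    intro x
    apply mem_of_mulVec_mem q u hdet
    intro l
    rw [← B_single_left, B_skew hs]
    exact q.neg_mem (hπy x _)
  refine false_of_span_mod (κ := Fin k ⊕ Fin k) q (Sum.elim v w)
    (Sum.elim (fun i x => B u x (w i)) (fun i x => - B u x (v i))) (fun x l => ?_)
    (by simp only [Fintype.card_sum, Fintype.card_fin]; omega)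
  have := hz x l
  rw [Fintype.sum_sum_type]
  simp only [Sum.elim_inl, Sum.elim_inr]
  have e : x l - (∑ i, B u x (w i) * v i l + ∑ i, -B u x (v i) * w i l) = (π x) l := by
    simp only [hπ, Pi.add_apply, Pi.sub_apply, Finset.sum_apply, Pi.smul_apply, smul_eq_mul,
      neg_mul, Finset.sum_neg_distrib]
    ring
  rw [e]
  exact this

end Step

section Induct

variable {K : Type u} [CommRing K] {ι : Type*} [Fintype ι] [DecidableEq ι]

theorem exists_symplectic (h2 : IsUnit (2 : K)) (q : PrimeSpectrum K)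
    (u : Matrix ι ι K) (hs : uᵀ = -u) (hdet : u.det ∉ q.asIdeal) :
    ∀ k, 2 * k ≤ Fintype.card ι → ∃ N : EtNbhd K q, ∃ v w : Fin k → ι → N.carrier,
      (∀ i j, B (u.map (algebraMap K N.carrier)) (v i) (w j) = if i = j then 1 else 0) ∧
      (∀ i j, B (u.map (algebraMap K N.carrier)) (v i) (v j) = 0) ∧
      (∀ i j, B (u.map (algebraMap K N.carrier)) (w i) (w j) = 0) := by
  intro k
  induction k with
  | zero =>
    intro _
    exact ⟨EtNbhd.refl K q, Fin.elim0, Fin.elim0, fun i => i.elim0, fun i => i.elim0,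
      fun i => i.elim0⟩
  | succ k ih =>
    intro hk
    obtain ⟨N, v, w, hvw, hvv, hww⟩ := ih (by omega)
    set u' := u.map (algebraMap K N.carrier) with hu'
    have hs' : u'ᵀ = -u' := by
      rw [hu', ← Matrix.transpose_map, hs]
      ext a b; simp
    have hdet' : u'.det ∉ N.pt.asIdeal := by
      have : u'.det = algebraMap K N.carrier u.det := (RingHom.map_det _ _).symm
      rw [this]
      exact N.not_mem_pt hdet
    have h2N : IsUnit (2 : N.carrier) := N.isUnit_two h2
    obtain ⟨x, y, hxv, hxw, hyv, hyw, hxy⟩ :=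
      exists_next_sympl N.pt.asIdeal u' hs' hdet' (by omega) v w hvw hvv hww
    obtain ⟨N1, hc⟩ := EtNbhd.exists_away (q := N.pt) (B u' x y) hxy
    let φ : N.carrier →+* N1.carrier := algebraMap N.carrier N1.carrier
    obtain ⟨ci, hci⟩ := hc.exists_left_inv
    have hci' : ci * φ (B u' x y) = 1 := hci
    have h2N1 : IsUnit (2 : N1.carrier) := N1.isUnit_two h2N
    have hs'' : (u'.map φ)ᵀ = -(u'.map φ) := by
      rw [← Matrix.transpose_map, hs']
      ext a b; simp
    refine ⟨N.trans N1, ?_⟩
    change ∃ v w : Fin (k + 1) → ι → N1.carrier,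
      (∀ i j, B (u'.map φ) (v i) (w j) = if i = j then 1 else 0) ∧
      (∀ i j, B (u'.map φ) (v i) (v j) = 0) ∧ (∀ i j, B (u'.map φ) (w i) (w j) = 0)
    let vnew : Fin (k + 1) → ι → N1.carrier :=
      Fin.snoc (α := fun _ => ι → N1.carrier) (fun i => φ ∘ v i) (ci • (φ ∘ x))
    let wnew : Fin (k + 1) → ι → N1.carrier :=
      Fin.snoc (α := fun _ => ι → N1.carrier) (fun i => φ ∘ w i) (φ ∘ y)
    have hvx : ∀ i, B u' (v i) x = 0 := fun i => by rw [B_skew hs', hxv, neg_zero]
    have hwx : ∀ i, B u' (w i) x = 0 := fun i => by rw [B_skew hs', hxw, neg_zero]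
    have hvy : ∀ i, B u' (v i) y = 0 := fun i => by rw [B_skew hs', hyv, neg_zero]
    have hwy : ∀ i, B u' (w i) y = 0 := fun i => by rw [B_skew hs', hyw, neg_zero]
    refine ⟨vnew, wnew, ?_, ?_, ?_⟩
    · intro i j
      refine Fin.lastCases ?_ (fun i => ?_) i <;> refine Fin.lastCases ?_ (fun j => ?_) j
      · simp only [vnew, wnew, Fin.snoc_last]
        rw [B_smul_left, B_map, hci']
        simp
      · simp only [vnew, wnew, Fin.snoc_last, Fin.snoc_castSucc]
        rw [if_neg (Fin.castSucc_lt_last j).ne', B_smul_left, B_map, hxw, map_zero, mul_zero]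
      · simp only [vnew, wnew, Fin.snoc_last, Fin.snoc_castSucc]
        rw [if_neg (Fin.castSucc_lt_last i).ne, B_map, hvy, map_zero]
      · simp only [vnew, wnew, Fin.snoc_castSucc]
        rw [B_map, hvw]
        by_cases hij : i = j
        · subst hij; simp
        · rw [if_neg hij, if_neg (fun h => hij (Fin.castSucc_inj.1 h)), map_zero]
    · intro i j
      refine Fin.lastCases ?_ (fun i => ?_) i <;> refine Fin.lastCases ?_ (fun j => ?_) j
      · exact B_self_of_skew h2N1 hs'' _
      · simp only [vnew, Fin.snoc_last, Fin.snoc_castSucc]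
        rw [B_smul_left, B_map, hxv, map_zero, mul_zero]
      · simp only [vnew, Fin.snoc_last, Fin.snoc_castSucc]
        rw [B_smul_right, B_map, hvx, map_zero, mul_zero]
      · simp only [vnew, Fin.snoc_castSucc]
        rw [B_map, hvv, map_zero]
    · intro i j
      refine Fin.lastCases ?_ (fun i => ?_) i <;> refine Fin.lastCases ?_ (fun j => ?_) j
      · exact B_self_of_skew h2N1 hs'' _
      · simp only [wnew, Fin.snoc_last, Fin.snoc_castSucc]
        rw [B_map, hyw, map_zero]
      · simp only [wnew, Fin.snoc_last, Fin.snoc_castSucc]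
        rw [B_map, hwy, map_zero]
      · simp only [wnew, Fin.snoc_castSucc]
        rw [B_map, hww, map_zero]

end Induct

section NormalForms

variable {K : Type u} [CommRing K] {ι : Type*} [Fintype ι] [DecidableEq ι]

/-- the standard alternating matrix, blocks `!![0, -1; 1, 0]` on the diagonal -/
def stdJ (K : Type*) [CommRing K] (m : ℕ) : Matrix (Fin m × Fin 2) (Fin m × Fin 2) K :=
  Matrix.of fun p p' =>
    if p.1 = p'.1 then (!![0, -1; 1, 0] : Matrix (Fin 2) (Fin 2) K) p.2 p'.2 else 0

theorem exists_orth_normal_form (h2 : IsUnit (2 : K)) (q : PrimeSpectrum K)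
    (u : Matrix ι ι K) (hs : uᵀ = u) (hdet : u.det ∉ q.asIdeal) {n : ℕ}
    (hn : Fintype.card ι = n) :
    ∃ N : EtNbhd K q, ∃ g : Matrix (Fin n) ι N.carrier,
      g * u.map (algebraMap K N.carrier) * gᵀ = 1 := by
  obtain ⟨N, v, hv⟩ := exists_orthonormal h2 q u hs hdet n hn.ge
  refine ⟨N, Matrix.of v, ?_⟩
  ext i j
  rw [gram_apply, hv, Matrix.one_apply]

theorem exists_sympl_normal_form (h2 : IsUnit (2 : K)) (q : PrimeSpectrum K)
    (u : Matrix ι ι K) (hs : uᵀ = -u) (hdet : u.det ∉ q.asIdeal) {m : ℕ}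
    (hm : Fintype.card ι = 2 * m) :
    ∃ N : EtNbhd K q, ∃ g : Matrix (Fin m × Fin 2) ι N.carrier,
      g * u.map (algebraMap K N.carrier) * gᵀ = stdJ N.carrier m := by
  obtain ⟨N, v, w, hvw, hvv, hww⟩ := exists_symplectic h2 q u hs hdet m hm.ge
  have hs' : (u.map (algebraMap K N.carrier))ᵀ = -(u.map (algebraMap K N.carrier)) := by
    rw [← Matrix.transpose_map, hs]
    ext a b; simp
  let x : Fin m × Fin 2 → ι → N.carrier := fun p => if p.2 = 0 then w p.1 else v p.1
  refine ⟨N, Matrix.of x, ?_⟩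
  generalize u.map (algebraMap K N.carrier) = u' at *
  ext ⟨i, a⟩ ⟨j, b⟩
  rw [gram_apply]
  have hwv : ∀ i j, B u' (w i) (v j) = if i = j then -1 else 0 := by
    intro i j
    rw [B_skew hs', hvw]
    by_cases hij : i = j
    · subst hij; simp
    · rw [if_neg hij, if_neg (Ne.symm hij), neg_zero]
  simp only [stdJ, Matrix.of_apply, x]
  by_cases hij : i = j
  · subst hij
    fin_cases a <;> fin_cases b <;> simp [hww, hwv, hvw, hvv]
  · fin_cases a <;> fin_cases b <;> simp [hww, hwv, hvw, hvv, hij]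

end NormalForms

end Groth.Agent.Lib.Helper1.AzInvLib
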