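import Mathlib
import Groth.Agent.Lib.Helper1.CSA.AzSpread
import Groth.Agent.Lib.Helper1.AzInv.EtNbhd

/-!
# Isomorphisms of algebras with a linear self-map, base change, étale covers

`IsoInv K σ σ'` : there is a `K`-algebra isomorphism intertwining the `K`-linear self-maps
`σ`, `σ'`.  Base change, the tower isomorphism, finite products and the passage from étale
neighbourhoods of all primes to one étale faithfully flat cover.
-/

set_option autoImplicit false
set_option linter.style.haveILetI false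

open TensorProduct

namespace Groth.Agent.Lib.Helper1.AzInvLib

universe u w w'

section Basic

variable (K : Type*) [CommRing K] {X Y Z : Type*} [Ring X] [Ring Y] [Ring Z]
  [Algebra K X] [Algebra K Y] [Algebra K Z]

/-- an isomorphism of algebras intertwining the given linear self-maps -/
def IsoInv (σ : X →ₗ[K] X) (σ' : Y →ₗ[K] Y) : Prop :=
  ∃ f : X ≃ₐ[K] Y, ∀ x, f (σ x) = σ' (f x)

variable {K}

theorem IsoInv.refl (σ : X →ₗ[K] X) : IsoInv K σ σ := ⟨AlgEquiv.refl, fun _ => rfl⟩

theorem IsoInv.symm {σ : X →ₗ[K] X} {σ' : Y →ₗ[K] Y} (h : IsoInv K σ σ') : IsoInv K σ' σ := by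
  obtain ⟨f, hf⟩ := h
  refine ⟨f.symm, fun y => ?_⟩
  apply f.injective
  rw [hf, f.apply_symm_apply, f.apply_symm_apply]

theorem IsoInv.trans {σ : X →ₗ[K] X} {σ' : Y →ₗ[K] Y} {σ'' : Z →ₗ[K] Z}
    (h : IsoInv K σ σ') (h' : IsoInv K σ' σ'') : IsoInv K σ σ'' := by
  obtain ⟨f, hf⟩ := h
  obtain ⟨g, hg⟩ := h'
  exact ⟨f.trans g, fun x => by rw [AlgEquiv.trans_apply, hf, hg]; rfl⟩

/-- base change of an isomorphism of algebras with self-map -/
theorem IsoInv.baseChange (K' : Type*) [CommRing K'] [Algebra K K'] {σ : X →ₗ[K] X}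
    {σ' : Y →ₗ[K] Y} (h : IsoInv K σ σ') :
    IsoInv K' (σ.baseChange K') (σ'.baseChange K') := by
  obtain ⟨f, hf⟩ := h
  refine ⟨Algebra.TensorProduct.congr (AlgEquiv.refl : K' ≃ₐ[K'] K') f, fun x => ?_⟩
  induction x using TensorProduct.induction_on with
  | zero => simp
  | add x y hx hy => simp only [map_add, hx, hy]
  | tmul s a =>
    rw [LinearMap.baseChange_tmul, Algebra.TensorProduct.congr_apply,
      Algebra.TensorProduct.map_tmul, Algebra.TensorProduct.congr_apply,
      Algebra.TensorProduct.map_tmul, LinearMap.baseChange_tmul]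
    exact congrArg _ (hf a)

end Basic

section Tower

variable (R : Type*) (K : Type*) (K' : Type*) [CommRing R] [CommRing K] [CommRing K']
  [Algebra R K] [Algebra R K'] [Algebra K K'] [IsScalarTower R K K']
  {X Y : Type*} [Ring X] [Ring Y] [Algebra R X] [Algebra R Y]

theorem cancelBaseChangeAlg_tmul (a : K') (s : K) (b : X) :
    AzSpread.cancelBaseChangeAlg R K K' X (a ⊗ₜ[K] (s ⊗ₜ[R] b)) = (s • a) ⊗ₜ[R] b :=
  TensorProduct.AlgebraTensorModule.cancelBaseChange_tmul R K K' a b s

/-- the tower isomorphism is compatible with base-changed self-maps -/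
theorem isoInv_cancel (σ : X →ₗ[R] X) :
    IsoInv K' ((σ.baseChange K).baseChange K') (σ.baseChange K') := by
  refine ⟨AzSpread.cancelBaseChangeAlg R K K' X, fun x => ?_⟩
  induction x using TensorProduct.induction_on with
  | zero => simp
  | add x y hx hy => simp only [map_add, hx, hy]
  | tmul a y =>
    induction y using TensorProduct.induction_on with
    | zero => simp
    | add x y hx hy => simp only [TensorProduct.tmul_add, map_add, hx, hy]
    | tmul s b =>
      rw [LinearMap.baseChange_tmul, LinearMap.baseChange_tmul, cancelBaseChangeAlg_tmul,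
        cancelBaseChangeAlg_tmul, LinearMap.baseChange_tmul]

/-- an isomorphism after base change to `K` gives one after base change to any `K`-algebra -/
theorem isoInv_of_tower {σ : X →ₗ[R] X} {ρ : Y →ₗ[R] Y}
    (h : IsoInv K (σ.baseChange K) (ρ.baseChange K)) :
    IsoInv K' (σ.baseChange K') (ρ.baseChange K') :=
  (isoInv_cancel R K K' σ).symm.trans ((h.baseChange K').trans (isoInv_cancel R K K' ρ))

end Tower

section Pi

variable {R : Type u} [CommRing R] {X : Type w} {Y : Type w'} [Ring X] [Ring Y]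
  [Algebra R X] [Algebra R Y]

/-- `(∏ B i) ⊗ X ≃ ∏ (B i ⊗ X)` -/
noncomputable def piTensor {ι : Type u} [Fintype ι] [DecidableEq ι] (B : ι → Type u)
    [∀ i, CommRing (B i)] [∀ i, Algebra R (B i)] (X : Type w) [Ring X] [Algebra R X] :
    (∀ i, B i) ⊗[R] X ≃ₐ[R] ∀ i, B i ⊗[R] X :=
  (Algebra.TensorProduct.comm R (∀ i, B i) X).trans
    ((Algebra.TensorProduct.piRight R R X B).trans
      (AlgEquiv.piCongrRight fun i => Algebra.TensorProduct.comm R X (B i)))

theorem piTensor_tmul {ι : Type u} [Fintype ι] [DecidableEq ι] (B : ι → Type u)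
    [∀ i, CommRing (B i)] [∀ i, Algebra R (B i)] (s : ∀ i, B i) (a : X) (i : ι) :
    piTensor B X (s ⊗ₜ[R] a) i = s i ⊗ₜ[R] a := rfl

theorem piTensor_baseChange {ι : Type u} [Fintype ι] [DecidableEq ι] (B : ι → Type u)
    [∀ i, CommRing (B i)] [∀ i, Algebra R (B i)] (σ : X →ₗ[R] X) (x : (∀ i, B i) ⊗[R] X)
    (i : ι) :
    piTensor B X (σ.baseChange (∀ i, B i) x) i = σ.baseChange (B i) (piTensor B X x i) := by
  induction x using TensorProduct.induction_on with
  | zero => simp
  | add x y hx hy => simp only [map_add, Pi.add_apply, hx, hy]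
  | tmul s a =>
    rw [LinearMap.baseChange_tmul, piTensor_tmul, piTensor_tmul, LinearMap.baseChange_tmul]

theorem isoInv_pi {ι : Type u} [Fintype ι] [DecidableEq ι] (B : ι → Type u)
    [∀ i, CommRing (B i)] [∀ i, Algebra R (B i)] (σ : X →ₗ[R] X) (ρ : Y →ₗ[R] Y)
    (h : ∀ i, IsoInv (B i) (σ.baseChange (B i)) (ρ.baseChange (B i))) :
    IsoInv (∀ i, B i) (σ.baseChange (∀ i, B i)) (ρ.baseChange (∀ i, B i)) := by
  choose f hf using h
  let F : (∀ i, B i) ⊗[R] X ≃ₐ[R] (∀ i, B i) ⊗[R] Y :=
    (piTensor B X).trans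
      ((AlgEquiv.piCongrRight fun i => (f i).restrictScalars R).trans (piTensor B Y).symm)
  have hF : ∀ (x : (∀ i, B i) ⊗[R] X) (i : ι), piTensor B Y (F x) i = f i (piTensor B X x i) := by
    intro x i
    simp only [F, AlgEquiv.trans_apply, AlgEquiv.apply_symm_apply]
    rfl
  have hcomm : ∀ s : (∀ i, B i), F (algebraMap (∀ i, B i) ((∀ i, B i) ⊗[R] X) s) =
      algebraMap (∀ i, B i) ((∀ i, B i) ⊗[R] Y) s := by
    intro s
    apply (piTensor B Y).injective
    funext i
    rw [hF, Algebra.TensorProduct.algebraMap_apply, Algebra.TensorProduct.algebraMap_apply]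
    rw [piTensor_tmul, piTensor_tmul]
    have := (f i).commutes (s i)
    rw [Algebra.TensorProduct.algebraMap_apply, Algebra.TensorProduct.algebraMap_apply] at this
    simpa using this
  refine ⟨AlgEquiv.ofRingEquiv (f := F.toRingEquiv) hcomm, fun x => ?_⟩
  change F (σ.baseChange (∀ i, B i) x) = ρ.baseChange (∀ i, B i) (F x)
  apply (piTensor B Y).injective
  funext i
  rw [hF, piTensor_baseChange, hf, piTensor_baseChange, hF]

end Pi

section Cover

variable {R : Type u} [CommRing R] {X : Type w} {Y : Type w'} [Ring X] [Ring Y]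
  [Algebra R X] [Algebra R Y]

/-- From étale neighbourhoods of every prime to one étale faithfully flat cover. -/
theorem exists_etale_cover_isoInv (σ : X →ₗ[R] X) (ρ : Y →ₗ[R] Y)
    (h : ∀ p : PrimeSpectrum R, ∃ N : EtNbhd R p,
      IsoInv N.carrier (σ.baseChange N.carrier) (ρ.baseChange N.carrier)) :
    ∃ (K : Type u) (_ : CommRing K) (_ : Algebra R K) (_ : Algebra.Etale R K)
      (_ : Module.FaithfullyFlat R K), IsoInv K (σ.baseChange K) (ρ.baseChange K) := by
  classical
  choose N hN using h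
  let U : PrimeSpectrum R → Set (PrimeSpectrum R) := fun p =>
    Set.range (PrimeSpectrum.comap (algebraMap R (N p).carrier))
  have hUo : ∀ p, IsOpen (U p) := fun p => isOpen_range_comap_of_etale R (N p).carrier
  have hUm : ∀ p, p ∈ U p := fun p => ⟨(N p).pt, (N p).hpt⟩
  obtain ⟨t, ht⟩ := isCompact_univ.elim_finite_subcover U hUo
    (fun p _ => Set.mem_iUnion.2 ⟨p, hUm p⟩)
  let ι : Type u := {p // p ∈ t}
  let B : ι → Type u := fun i => (N i.1).carrier
  let K : Type u := ∀ i, B i
  have hFlat : Module.Flat R K :=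
    Module.Flat.of_linearEquiv (DFinsupp.linearEquivFunOnFintype (R := R) (M := B)).symm
  have hff : Module.FaithfullyFlat R K := by
    refine Module.FaithfullyFlat.of_comap_surjective fun q => ?_
    have hq := ht (Set.mem_univ q)
    simp only [Set.mem_iUnion] at hq
    obtain ⟨p, hp, q', hq'⟩ := hq
    refine ⟨PrimeSpectrum.comap (Pi.evalRingHom B ⟨p, hp⟩) q', ?_⟩
    rw [← hq']
    rfl
  refine ⟨K, inferInstance, inferInstance, inferInstance, hff, ?_⟩
  exact isoInv_pi B σ ρ fun i => hN i.1

end Cover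

end Groth.Agent.Lib.Helper1.AzInvLib
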