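import Mathlib
import Groth.Agent.Lib.Helper1.AzInv.IsoInv

/-!
# Linear self-maps of matrix algebras: extension of scalars, adjoint involutions

* `IsExt φ ρ ρ'` : `ρ'` (over `K'`) extends `ρ` (over `K`) along `φ : K →+* K'`.
* `matBC` : `K' ⊗[K] Matrix ι ι K ≃ₐ[K'] Matrix ι ι K'`, `matExt ρ K'` the extension of `ρ`.
* `adj u` : `X ↦ u * Xᵀ * u⁻¹`.
* `isoInv_adj_of_conj` : `g u gᵀ = w` gives an isomorphism `(M, adj u) ≃ (M', adj w)`.
-/

set_option autoImplicit false
set_option linter.style.haveILetI false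
set_option linter.unusedSectionVars false

open TensorProduct Matrix

namespace Groth.Agent.Lib.Helper1.AzInvLib

universe u

section Ext

variable {K K' K'' : Type*} [CommRing K] [CommRing K'] [CommRing K'']
  {ι : Type*} [Fintype ι] [DecidableEq ι]

/-- `ρ'` extends `ρ` along `φ`. -/
def IsExt (φ : K →+* K') (ρ : Matrix ι ι K →ₗ[K] Matrix ι ι K)
    (ρ' : Matrix ι ι K' →ₗ[K'] Matrix ι ι K') : Prop :=
  ∀ X : Matrix ι ι K, ρ' (X.map φ) = (ρ X).map φ

theorem IsExt.trans {φ : K →+* K'} {φ' : K' →+* K''} {ρ : Matrix ι ι K →ₗ[K] Matrix ι ι K}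
    {ρ' : Matrix ι ι K' →ₗ[K'] Matrix ι ι K'} {ρ'' : Matrix ι ι K'' →ₗ[K''] Matrix ι ι K''}
    (h : IsExt φ ρ ρ') (h' : IsExt φ' ρ' ρ'') : IsExt (φ'.comp φ) ρ ρ'' := by
  intro X
  have e1 : X.map (φ'.comp φ) = (X.map φ).map φ' := by ext i j; rfl
  have e2 : (ρ X).map (φ'.comp φ) = ((ρ X).map φ).map φ' := by ext i j; rfl
  rw [e1, h', h, e2]

/-- linear maps out of `Matrix ι ι K'` agreeing on matrices coming from `K` are equal -/
theorem linearMap_ext_of_map (φ : K →+* K') {M : Type*} [AddCommMonoid M] [Module K' M]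
    {f g : Matrix ι ι K' →ₗ[K'] M} (h : ∀ X : Matrix ι ι K, f (X.map φ) = g (X.map φ)) :
    f = g := by
  apply Matrix.ext_linearMap
  intro i j
  ext
  have e : Matrix.single i j (1 : K') = (Matrix.single i j (1 : K)).map φ := by
    rw [Matrix.map_single, map_one]
  simp only [LinearMap.comp_apply, Matrix.singleLinearMap_apply]
  rw [e, h]

theorem IsExt.unique {φ : K →+* K'} {ρ : Matrix ι ι K →ₗ[K] Matrix ι ι K}
    {ρ' ρ'' : Matrix ι ι K' →ₗ[K'] Matrix ι ι K'} (h : IsExt φ ρ ρ') (h' : IsExt φ ρ ρ'') :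
    ρ' = ρ'' :=
  linearMap_ext_of_map φ fun X => by rw [h, h']

end Ext

section BC

variable (K : Type*) (K' : Type*) [CommRing K] [CommRing K'] [Algebra K K']
  (ι : Type*) [Fintype ι] [DecidableEq ι]

/-- `K' ⊗[K] Matrix ι ι K ≃ₐ[K'] Matrix ι ι K'` -/
noncomputable def matBC : K' ⊗[K] Matrix ι ι K ≃ₐ[K'] Matrix ι ι K' :=
  AlgEquiv.ofRingEquiv (f := (matrixEquivTensor ι K K').symm.toRingEquiv) (by
    intro a
    rw [Algebra.TensorProduct.algebraMap_apply]
    change (matrixEquivTensor ι K K').symm (a ⊗ₜ[K] (1 : Matrix ι ι K)) = _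
    rw [matrixEquivTensor_apply_symm, Matrix.map_one _ (map_zero _) (map_one _),
      Algebra.algebraMap_eq_smul_one])

variable {K K' ι}

theorem matBC_tmul (a : K') (X : Matrix ι ι K) :
    matBC K K' ι (a ⊗ₜ[K] X) = a • X.map (algebraMap K K') := rfl

variable (K')

/-- the extension of a linear self-map of `Matrix ι ι K` to `Matrix ι ι K'` -/
noncomputable def matExt (ρ : Matrix ι ι K →ₗ[K] Matrix ι ι K) :
    Matrix ι ι K' →ₗ[K'] Matrix ι ι K' :=
  (matBC K K' ι).toLinearEquiv.toLinearMap ∘ₗ ρ.baseChange K' ∘ₗ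
    (matBC K K' ι).symm.toLinearEquiv.toLinearMap

theorem matExt_apply (ρ : Matrix ι ι K →ₗ[K] Matrix ι ι K) (Y : Matrix ι ι K') :
    matExt K' ρ Y = matBC K K' ι (ρ.baseChange K' ((matBC K K' ι).symm Y)) := rfl

theorem isExt_matExt (ρ : Matrix ι ι K →ₗ[K] Matrix ι ι K) :
    IsExt (algebraMap K K') ρ (matExt K' ρ) := by
  intro X
  have e : (matBC K K' ι).symm (X.map (algebraMap K K')) = (1 : K') ⊗ₜ[K] X := by
    apply (matBC K K' ι).injective
    rw [AlgEquiv.apply_symm_apply, matBC_tmul, one_smul]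
  rw [matExt_apply, e, LinearMap.baseChange_tmul, matBC_tmul, one_smul]

/-- base change of `(Matrix ι ι K, ρ)` is `(Matrix ι ι K', matExt ρ)` -/
theorem isoInv_matExt (ρ : Matrix ι ι K →ₗ[K] Matrix ι ι K) :
    IsoInv K' (ρ.baseChange K') (matExt K' ρ) :=
  ⟨matBC K K' ι, fun x => by rw [matExt_apply, AlgEquiv.symm_apply_apply]⟩

theorem isoInv_of_isExt {ρ : Matrix ι ι K →ₗ[K] Matrix ι ι K}
    {ρ' : Matrix ι ι K' →ₗ[K'] Matrix ι ι K'} (h : IsExt (algebraMap K K') ρ ρ') :
    IsoInv K' (ρ.baseChange K') ρ' := by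
  rw [h.unique (isExt_matExt K' ρ)]
  exact isoInv_matExt K' ρ

end BC

section Adj

variable {K K' : Type*} [CommRing K] [CommRing K']
  {ι ι' : Type*} [Fintype ι] [DecidableEq ι] [Fintype ι'] [DecidableEq ι']

/-- the transpose as a linear map -/
def transposeLin (K : Type*) [CommRing K] (ι : Type*) : Matrix ι ι K →ₗ[K] Matrix ι ι K where
  toFun X := Xᵀ
  map_add' X Y := Matrix.transpose_add X Y
  map_smul' c X := Matrix.transpose_smul c X

@[simp] theorem transposeLin_apply (X : Matrix ι ι K) : transposeLin K ι X = Xᵀ := rfl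

/-- `X ↦ u * Xᵀ * u⁻¹` -/
noncomputable def adj (u : Matrix ι ι K) : Matrix ι ι K →ₗ[K] Matrix ι ι K where
  toFun X := u * Xᵀ * u⁻¹
  map_add' X Y := by rw [Matrix.transpose_add, mul_add, add_mul]
  map_smul' c X := by
    rw [Matrix.transpose_smul, Matrix.mul_smul, Matrix.smul_mul, RingHom.id_apply]

theorem adj_apply (u X : Matrix ι ι K) : adj u X = u * Xᵀ * u⁻¹ := rfl

theorem adj_one : adj (1 : Matrix ι ι K) = transposeLin K ι := by
  ext X : 1
  rw [adj_apply, inv_one, one_mul, mul_one, transposeLin_apply]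

theorem map_inv_of_isUnit_det (φ : K →+* K') (u : Matrix ι ι K) (hu : IsUnit u.det) :
    (u.map φ)⁻¹ = (u⁻¹).map φ := by
  apply Matrix.inv_eq_left_inv
  rw [← Matrix.map_mul, Matrix.nonsing_inv_mul _ hu, Matrix.map_one _ (map_zero _) (map_one _)]

theorem isExt_adj (φ : K →+* K') (u : Matrix ι ι K) (hu : IsUnit u.det) :
    IsExt φ (adj u) (adj (u.map φ)) := by
  intro X
  rw [adj_apply, adj_apply, map_inv_of_isUnit_det φ u hu, Matrix.map_mul, Matrix.map_mul,
    Matrix.transpose_map]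

theorem isExt_transposeLin (φ : K →+* K') :
    IsExt φ (transposeLin K ι) (transposeLin K' ι) := by
  intro X
  rw [transposeLin_apply, transposeLin_apply, Matrix.transpose_map]

/-- conjugation by a (possibly rectangular) invertible matrix -/
def conjEquiv (g : Matrix ι' ι K) (h : Matrix ι ι' K) (hgh : g * h = 1) (hhg : h * g = 1) :
    Matrix ι ι K ≃ₐ[K] Matrix ι' ι' K where
  toFun X := g * X * h
  invFun Y := h * Y * g
  left_inv X := by
    change h * (g * X * h) * g = X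
    calc h * (g * X * h) * g = (h * g) * X * (h * g) := by
          simp only [Matrix.mul_assoc]
      _ = X := by rw [hhg, Matrix.one_mul, Matrix.mul_one]
  right_inv Y := by
    change g * (h * Y * g) * h = Y
    calc g * (h * Y * g) * h = (g * h) * Y * (g * h) := by
          simp only [Matrix.mul_assoc]
      _ = Y := by rw [hgh, Matrix.one_mul, Matrix.mul_one]
  map_mul' X Y := by
    change g * (X * Y) * h = g * X * h * (g * Y * h)
    calc g * (X * Y) * h = g * X * (1 : Matrix ι ι K) * Y * h := by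
          rw [Matrix.mul_one]; simp only [Matrix.mul_assoc]
      _ = g * X * h * (g * Y * h) := by rw [← hhg]; simp only [Matrix.mul_assoc]
  map_add' X Y := by
    change g * (X + Y) * h = g * X * h + g * Y * h
    rw [Matrix.mul_add, Matrix.add_mul]
  commutes' r := by
    change g * (algebraMap K (Matrix ι ι K) r) * h = algebraMap K (Matrix ι' ι' K) r
    rw [Algebra.algebraMap_eq_smul_one, Algebra.algebraMap_eq_smul_one, Matrix.mul_smul,
      Matrix.smul_mul, Matrix.mul_one, hgh]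

theorem conjEquiv_apply (g : Matrix ι' ι K) (h : Matrix ι ι' K) (hgh : g * h = 1)
    (hhg : h * g = 1) (X : Matrix ι ι K) : conjEquiv g h hgh hhg X = g * X * h := rfl

/-- if `g u gᵀ = w` with `g` invertible then `(M_ι, adj u) ≃ (M_ι', adj w)` -/
theorem isoInv_adj_of_conj (g : Matrix ι' ι K) (h : Matrix ι ι' K) (hgh : g * h = 1)
    (hhg : h * g = 1) (u : Matrix ι ι K) (w : Matrix ι' ι' K) (hu : IsUnit u.det)
    (hw : IsUnit w.det) (hguw : g * u * gᵀ = w) : IsoInv K (adj u) (adj w) := by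
  refine ⟨conjEquiv g h hgh hhg, fun X => ?_⟩
  rw [conjEquiv_apply, conjEquiv_apply, adj_apply, adj_apply]
  have h1 : w * hᵀ = g * u := by
    rw [← hguw, Matrix.mul_assoc, ← Matrix.transpose_mul, hhg, Matrix.transpose_one,
      Matrix.mul_one]
  have h2 : gᵀ * w⁻¹ = u⁻¹ * h := by
    have e : h * w = u * gᵀ := by
      rw [← hguw, ← Matrix.mul_assoc, ← Matrix.mul_assoc, hhg, Matrix.one_mul]
    calc gᵀ * w⁻¹ = u⁻¹ * (u * gᵀ) * w⁻¹ := by
          rw [← Matrix.mul_assoc, Matrix.nonsing_inv_mul _ hu, Matrix.one_mul]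
      _ = u⁻¹ * h * (w * w⁻¹) := by rw [← e]; simp only [Matrix.mul_assoc]
      _ = u⁻¹ * h := by rw [Matrix.mul_nonsing_inv _ hw, Matrix.mul_one]
  calc g * (u * Xᵀ * u⁻¹) * h = (g * u) * Xᵀ * (u⁻¹ * h) := by simp only [Matrix.mul_assoc]
    _ = w * hᵀ * Xᵀ * (gᵀ * w⁻¹) := by rw [h1, h2]
    _ = w * (g * X * h)ᵀ * w⁻¹ := by
      rw [Matrix.transpose_mul, Matrix.transpose_mul]; simp only [Matrix.mul_assoc]

end Adj

end Groth.Agent.Lib.Helper1.AzInvLib
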