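import Mathlib
import Groth.Agent.Lib.Helper1.AzInv.MatExt

/-!
# Involutions of matrix algebras are Zariski-locally adjoint to a symmetric or alternating form
-/

set_option autoImplicit false
set_option linter.style.haveILetI false
set_option linter.unusedSectionVars false

open Matrix

namespace Groth.Agent.Lib.Helper1.AzInvLib

universe u

section Intertwiner

variable {K : Type*} [CommRing K] {ι : Type*} [Fintype ι] [DecidableEq ι]

theorem map_one_of_antiInvolution (τ : Matrix ι ι K →ₗ[K] Matrix ι ι K)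
    (hmul : ∀ X Y, τ (X * Y) = τ Y * τ X) (hinv : ∀ X, τ (τ X) = X) : τ 1 = 1 := by
  have h : ∀ Y, τ 1 * Y = Y := fun Y => by
    have := hmul (τ Y) 1
    rw [mul_one, hinv] at this
    exact this.symm
  simpa using h 1

theorem mul_single_eq_sum (X : Matrix ι ι K) (i i₀ : ι) :
    X * Matrix.single i i₀ (1 : K) = ∑ k, X k i • Matrix.single k i₀ (1 : K) := by
  ext a b
  rw [Matrix.sum_apply, Matrix.mul_apply]
  by_cases hb : i₀ = b
  · subst hb
    simp [Matrix.single_apply, Matrix.smul_apply]
  · simp [Matrix.single_apply, Matrix.smul_apply, hb]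

/-- Zariski-local Skolem–Noether for an anti-involution of a matrix algebra: there is an
intertwiner with determinant outside the given prime. -/
theorem exists_intertwiner [Nonempty ι] (q : PrimeSpectrum K)
    (τ : Matrix ι ι K →ₗ[K] Matrix ι ι K)
    (hmul : ∀ X Y, τ (X * Y) = τ Y * τ X) (hinv : ∀ X, τ (τ X) = X) :
    ∃ u : Matrix ι ι K, u.det ∉ q.asIdeal ∧ ∀ X, τ X * u = u * Xᵀ := by
  classical
  obtain ⟨i₀⟩ := ‹Nonempty ι›
  have h1 : τ 1 = 1 := map_one_of_antiInvolution τ hmul hinv
  -- the multiplicative map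
  set φ : Matrix ι ι K → Matrix ι ι K := fun X => τ Xᵀ with hφ
  have φmul : ∀ X Y, φ (X * Y) = φ X * φ Y := fun X Y => by
    simp only [hφ, Matrix.transpose_mul, hmul]
  have φone : φ 1 = 1 := by simp only [hφ, Matrix.transpose_one, h1]
  have φsum : ∀ (s : Finset ι) (f : ι → Matrix ι ι K), φ (∑ k ∈ s, f k) = ∑ k ∈ s, φ (f k) := by
    intro s f
    simp only [hφ, Matrix.transpose_sum, map_sum]
  have φsmul : ∀ (c : K) X, φ (c • X) = c • φ X := fun c X => by
    simp only [hφ, Matrix.transpose_smul, map_smul]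
  set F : ι → ι → Matrix ι ι K := fun i j => φ (Matrix.single i j 1) with hF
  have F_same : ∀ i j l, F i j * F j l = F i l := fun i j l => by
    simp only [hF]
    rw [← φmul, Matrix.single_mul_single_same, mul_one]
  have F_ne : ∀ i j k l, j ≠ k → F i j * F k l = 0 := fun i j k l h => by
    simp only [hF]
    rw [← φmul, Matrix.single_mul_single_of_ne _ _ _ _ h]
    simp only [hφ, Matrix.transpose_zero, map_zero]
  have F_sum : ∑ i, F i i = 1 := by
    simp only [hF]
    rw [← φsum, ← φone]
    congr 1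
    ext a b
    rw [Matrix.sum_apply]
    by_cases hab : a = b
    · subst hab
      simp [Matrix.single_apply]
    · rw [Matrix.one_apply_ne hab]
      refine Finset.sum_eq_zero fun x _ => ?_
      rw [Matrix.single_apply]
      rw [if_neg]
      rintro ⟨rfl, rfl⟩
      exact hab rfl
  -- intertwiners from vectors
  have key : ∀ v : ι → K, ∀ X, φ X * (Matrix.of fun a i => (F i i₀ *ᵥ v) a) =
      (Matrix.of fun a i => (F i i₀ *ᵥ v) a) * X := by
    intro v X
    ext a i
    rw [Matrix.mul_apply, Matrix.mul_apply]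
    have e1 : ∑ b, φ X a b * (Matrix.of fun a i => (F i i₀ *ᵥ v) a) b i =
        ((φ X * F i i₀) *ᵥ v) a := by
      rw [← Matrix.mulVec_mulVec]
      rfl
    rw [e1]
    have e2 : φ X * F i i₀ = ∑ k, X k i • F k i₀ := by
      simp only [hF]
      rw [← φmul, mul_single_eq_sum, φsum]
      exact Finset.sum_congr rfl fun k _ => φsmul _ _
    rw [e2, Matrix.sum_mulVec, Finset.sum_apply]
    refine Finset.sum_congr rfl fun k _ => ?_
    rw [Matrix.smul_mulVec, Pi.smul_apply, smul_eq_mul, Matrix.of_apply, mul_comm]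
  -- residue field
  let κ := q.asIdeal.ResidueField
  let ψ : K →+* κ := algebraMap K κ
  have hψ : ∀ x, ψ x = 0 ↔ x ∈ q.asIdeal := fun x => Ideal.algebraMap_residueField_eq_zero
  set G : ι → ι → Matrix ι ι κ := fun i j => ψ.mapMatrix (F i j) with hG
  have G_same : ∀ i j l, G i j * G j l = G i l := fun i j l => by
    simp only [hG]; rw [← map_mul, F_same]
  have G_ne : ∀ i j k l, j ≠ k → G i j * G k l = 0 := fun i j k l h => by
    simp only [hG]; rw [← map_mul, F_ne _ _ _ _ h, map_zero]
  have G_sum : ∑ i, G i i = 1 := by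
    simp only [hG]; rw [← map_sum, F_sum, map_one]
  have G00 : G i₀ i₀ ≠ 0 := by
    intro h0
    have : (1 : Matrix ι ι κ) = 0 := by
      rw [← G_sum]
      refine Finset.sum_eq_zero fun i _ => ?_
      rw [← G_same i i₀ i, ← G_same i i₀ i₀, h0, mul_zero, zero_mul]
    exact one_ne_zero this
  obtain ⟨b, a, hba⟩ : ∃ b a, G i₀ i₀ b a ≠ 0 := by
    by_contra hcon
    push Not at hcon
    exact G00 (Matrix.ext fun b a => hcon b a)
  -- the vector
  set v : ι → K := fun c => F i₀ i₀ c a with hv
  set vb : ι → κ := ψ ∘ v with hvb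
  have hvb_ne : vb ≠ 0 := by
    intro h
    apply hba
    have := congrFun h b
    simpa [hvb, hv, hG] using this
  have hvb_fix : G i₀ i₀ *ᵥ vb = vb := by
    funext c
    have := congrFun (congrFun (G_same i₀ i₀ i₀) c) a
    rw [Matrix.mul_apply] at this
    rw [Matrix.mulVec, dotProduct]
    simpa [hvb, hv, hG] using this
  refine ⟨Matrix.of fun a i => (F i i₀ *ᵥ v) a, ?_, ?_⟩
  · -- determinant
    intro hdet
    have hdet0 : ψ (Matrix.of fun a i => (F i i₀ *ᵥ v) a).det = 0 := (hψ _).2 hdet
    rw [RingHom.map_det] at hdet0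
    set U : Matrix ι ι κ := ψ.mapMatrix (Matrix.of fun a i => (F i i₀ *ᵥ v) a) with hU
    have hUcol : ∀ i, U.col i = G i i₀ *ᵥ vb := by
      intro i
      funext c
      simp only [hU, Matrix.col_apply, RingHom.mapMatrix_apply, Matrix.map_apply, Matrix.of_apply]
      rw [RingHom.map_mulVec]
      rfl
    have hli : LinearIndependent κ U.col := by
      rw [Fintype.linearIndependent_iff]
      intro c hc j
      have h2 : G i₀ j *ᵥ (∑ i, c i • U.col i) = c j • vb := by
        rw [Matrix.mulVec_sum]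
        rw [Finset.sum_eq_single j]
        · rw [Matrix.mulVec_smul, hUcol, Matrix.mulVec_mulVec, G_same, hvb_fix]
        · intro i _ hij
          rw [Matrix.mulVec_smul, hUcol, Matrix.mulVec_mulVec, G_ne _ _ _ _ (Ne.symm hij),
            Matrix.zero_mulVec, smul_zero]
        · intro h; exact absurd (Finset.mem_univ j) h
      rw [hc, Matrix.mulVec_zero] at h2
      rcases smul_eq_zero.1 h2.symm with h | h
      · exact h
      · exact absurd h hvb_ne
    have hUu : IsUnit U := Matrix.linearIndependent_cols_iff_isUnit.1 hli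
    have : IsUnit U.det := (Matrix.isUnit_iff_isUnit_det U).1 hUu
    rw [hdet0] at this
    exact not_isUnit_zero this
  · intro X
    have := key v Xᵀ
    simp only [hφ, Matrix.transpose_transpose] at this
    exact this

end Intertwiner

section Sign

variable {K : Type*} [CommRing K] {ι : Type*} [Fintype ι] [DecidableEq ι]

/-- if `adj u` is an involution then `uᵀ = μ u` with `μ² = 1` -/
theorem exists_sign [Nonempty ι] (u : Matrix ι ι K) (hu : IsUnit u.det)
    (hinv : ∀ X, adj u (adj u X) = X) : ∃ μ : K, uᵀ = μ • u ∧ μ * μ = 1 := by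
  obtain ⟨i₀⟩ := ‹Nonempty ι›
  have hut : IsUnit uᵀ.det := by rw [Matrix.det_transpose]; exact hu
  have e_inv_t : (u⁻¹)ᵀ * uᵀ = 1 := by
    rw [← Matrix.transpose_mul, Matrix.mul_nonsing_inv _ hu, Matrix.transpose_one]
  have e_t_inv : uᵀ * (u⁻¹)ᵀ = 1 := by
    rw [← Matrix.transpose_mul, Matrix.nonsing_inv_mul _ hu, Matrix.transpose_one]
  set c : Matrix ι ι K := u * (u⁻¹)ᵀ with hc
  set c' : Matrix ι ι K := uᵀ * u⁻¹ with hc'
  have hcc' : c * c' = 1 := by
    rw [hc, hc']
    calc u * (u⁻¹)ᵀ * (uᵀ * u⁻¹) = u * ((u⁻¹)ᵀ * uᵀ) * u⁻¹ := by simp only [Matrix.mul_assoc]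
      _ = 1 := by rw [e_inv_t, Matrix.mul_one, Matrix.mul_nonsing_inv _ hu]
  have hconj : ∀ X, c * X * c' = X := by
    intro X
    have := hinv X
    rw [adj_apply, adj_apply, Matrix.transpose_mul, Matrix.transpose_mul,
      Matrix.transpose_transpose] at this
    calc c * X * c' = u * ((u⁻¹)ᵀ * (X * uᵀ)) * u⁻¹ := by
          rw [hc, hc']; simp only [Matrix.mul_assoc]
      _ = X := this
  have hcomm : ∀ X, c * X = X * c := by
    intro X
    calc c * X = c * X * (c' * c) := by
          have : c' * c = 1 := by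
            rw [hc, hc']
            calc uᵀ * u⁻¹ * (u * (u⁻¹)ᵀ) = uᵀ * (u⁻¹ * u) * (u⁻¹)ᵀ := by
                  simp only [Matrix.mul_assoc]
              _ = 1 := by rw [Matrix.nonsing_inv_mul _ hu, Matrix.mul_one, e_t_inv]
          rw [this, Matrix.mul_one]
      _ = (c * X * c') * c := by simp only [Matrix.mul_assoc]
      _ = X * c := by rw [hconj]
  have hcen : c ∈ Set.range (Matrix.scalar ι) := by
    rw [Matrix.mem_range_scalar_iff_commute_single']
    intro i j
    exact (hcomm _).symm
  obtain ⟨μ, hμ⟩ := hcen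
  have hu_eq : u = μ • uᵀ := by
    have : c * uᵀ = u := by
      rw [hc, Matrix.mul_assoc, e_inv_t, Matrix.mul_one]
    calc u = c * uᵀ := this.symm
      _ = Matrix.scalar ι μ * uᵀ := by rw [hμ]
      _ = μ • uᵀ := by rw [Matrix.scalar_apply, ← Matrix.smul_eq_diagonal_mul]
  have hut_eq : uᵀ = μ • u := by
    have := congrArg Matrix.transpose hu_eq
    rw [Matrix.transpose_smul, Matrix.transpose_transpose] at this
    exact this
  refine ⟨μ, hut_eq, ?_⟩
  have h3 : u = (μ * μ) • u := by
    conv_lhs => rw [hu_eq, hut_eq, smul_smul]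
  have h4 : (1 : Matrix ι ι K) = (μ * μ) • (1 : Matrix ι ι K) := by
    calc (1 : Matrix ι ι K) = u * u⁻¹ := (Matrix.mul_nonsing_inv _ hu).symm
      _ = ((μ * μ) • u) * u⁻¹ := by rw [← h3]
      _ = (μ * μ) • (1 : Matrix ι ι K) := by
        rw [Matrix.smul_mul, Matrix.mul_nonsing_inv _ hu]
  have := congrFun (congrFun h4 i₀) i₀
  simpa using this.symm

end Sign

end Groth.Agent.Lib.Helper1.AzInvLib
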