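import Mathlib
import Groth.Agent.Lib.Helper1.AzInv.LocalSN
import Groth.Agent.Lib.Helper1.AzInv.GramSympl

/-!
# An involution of a matrix algebra is étale-locally the transpose or the standard symplectic one
-/

set_option autoImplicit false
set_option linter.style.haveILetI false
set_option linter.unusedSectionVars false

open Matrix

namespace Groth.Agent.Lib.Helper1.AzInvLib

universe u

section Aux

variable {K K' : Type*} [CommRing K] [CommRing K'] {ι : Type*} [Fintype ι] [DecidableEq ι]

theorem matExt_eq_adj [Algebra K K'] (τ : Matrix ι ι K →ₗ[K] Matrix ι ι K) (u : Matrix ι ι K)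
    (hu : ∀ X, τ X * u = u * Xᵀ) (hdet : IsUnit (algebraMap K K' u.det)) :
    matExt K' τ = adj (u.map (algebraMap K K')) := by
  apply linearMap_ext_of_map (algebraMap K K')
  intro X
  rw [isExt_matExt K' τ X, adj_apply]
  have hū : IsUnit (u.map (algebraMap K K')).det := by
    have : (u.map (algebraMap K K')).det = algebraMap K K' u.det := (RingHom.map_det _ _).symm
    rw [this]; exact hdet
  have h1 : (τ X).map (algebraMap K K') * u.map (algebraMap K K') =
      u.map (algebraMap K K') * (X.map (algebraMap K K'))ᵀ := by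
    rw [← Matrix.map_mul, hu, Matrix.map_mul, Matrix.transpose_map]
  calc (τ X).map (algebraMap K K')
      = (τ X).map (algebraMap K K') * (u.map (algebraMap K K') * (u.map (algebraMap K K'))⁻¹) := by
        rw [Matrix.mul_nonsing_inv _ hū, Matrix.mul_one]
    _ = u.map (algebraMap K K') * (X.map (algebraMap K K'))ᵀ * (u.map (algebraMap K K'))⁻¹ := by
        rw [← Matrix.mul_assoc, h1]

theorem matExt_invol [Algebra K K'] (τ : Matrix ι ι K →ₗ[K] Matrix ι ι K)
    (hinv : ∀ X, τ (τ X) = X) (Y : Matrix ι ι K') : matExt K' τ (matExt K' τ Y) = Y := by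
  have : (matExt K' τ) ∘ₗ (matExt K' τ) = LinearMap.id := by
    apply linearMap_ext_of_map (algebraMap K K')
    intro X
    rw [LinearMap.comp_apply, isExt_matExt K' τ X, isExt_matExt K' τ (τ X), hinv,
      LinearMap.id_apply]
  exact congrArg (fun f => f Y) this

theorem stdJ_eq_kronecker (m : ℕ) :
    stdJ K m = Matrix.kroneckerMap (· * ·) (1 : Matrix (Fin m) (Fin m) K)
      (!![0, -1; 1, 0] : Matrix (Fin 2) (Fin 2) K) := by
  ext ⟨i, a⟩ ⟨j, b⟩
  simp only [stdJ, Matrix.of_apply, Matrix.kroneckerMap_apply, Matrix.one_apply]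
  split_ifs <;> simp

theorem stdJ_mul_neg (m : ℕ) : stdJ K m * (-stdJ K m) = 1 := by
  have h : (!![0, -1; 1, 0] : Matrix (Fin 2) (Fin 2) K) * (-!![0, -1; 1, 0]) = 1 := by
    ext a b
    fin_cases a <;> fin_cases b <;> simp [Matrix.mul_apply, Fin.sum_univ_two]
  have e : -stdJ K m =
      Matrix.kroneckerMap (· * ·) (1 : Matrix (Fin m) (Fin m) K)
      (-(!![0, -1; 1, 0] : Matrix (Fin 2) (Fin 2) K)) := by
    ext ⟨i, a⟩ ⟨j, b⟩
    simp only [stdJ, Matrix.neg_apply, Matrix.of_apply, Matrix.kroneckerMap_apply,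
      Matrix.one_apply]
    by_cases hij : i = j
    · subst hij
      fin_cases a <;> fin_cases b <;> simp
    · simp [hij]
  rw [e, stdJ_eq_kronecker]
  calc Matrix.kroneckerMap (· * ·) (1 : Matrix (Fin m) (Fin m) K)
        (!![0, -1; 1, 0] : Matrix (Fin 2) (Fin 2) K) *
      Matrix.kroneckerMap (· * ·) (1 : Matrix (Fin m) (Fin m) K)
        (-(!![0, -1; 1, 0] : Matrix (Fin 2) (Fin 2) K))
      = Matrix.kroneckerMap (· * ·) ((1 : Matrix (Fin m) (Fin m) K) * 1)
        ((!![0, -1; 1, 0] : Matrix (Fin 2) (Fin 2) K) * (-!![0, -1; 1, 0])) :=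
        (Matrix.mul_kronecker_mul _ _ _ _).symm
    _ = 1 := by rw [h, Matrix.one_mul, Matrix.one_kronecker_one]

theorem isUnit_det_stdJ (m : ℕ) : IsUnit (stdJ K m).det :=
  Matrix.isUnit_det_of_right_inverse (stdJ_mul_neg m)

theorem stdJ_transpose (m : ℕ) : (stdJ K m)ᵀ = -stdJ K m := by
  ext ⟨i, a⟩ ⟨j, b⟩
  simp only [stdJ, Matrix.transpose_apply, Matrix.of_apply, Matrix.neg_apply]
  by_cases hij : i = j
  · subst hij
    fin_cases a <;> fin_cases b <;> simp
  · rw [if_neg hij, if_neg (Ne.symm hij), neg_zero]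

theorem stdJ_map (φ : K →+* K') (m : ℕ) : (stdJ K m).map φ = stdJ K' m := by
  ext ⟨i, a⟩ ⟨j, b⟩
  simp only [stdJ, Matrix.map_apply, Matrix.of_apply]
  by_cases hij : i = j
  · subst hij
    fin_cases a <;> fin_cases b <;> simp
  · rw [if_neg hij, if_neg hij, map_zero]

end Aux

section Stage3

variable {K : Type u} [CommRing K] {n : ℕ}

theorem stage3_orth (h2 : IsUnit (2 : K)) (q : PrimeSpectrum K)
    (u : Matrix (Fin n) (Fin n) K) (hs : uᵀ = u) (hdet : IsUnit u.det) :
    ∃ N : EtNbhd K q, IsoInv N.carrier (adj (u.map (algebraMap K N.carrier)))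
      (transposeLin N.carrier (Fin n)) := by
  have hdq : u.det ∉ q.asIdeal := fun h =>
    q.isPrime.ne_top (Ideal.eq_top_of_isUnit_mem _ h hdet)
  obtain ⟨N, g, hg⟩ := exists_orth_normal_form h2 q u hs hdq (Fintype.card_fin n)
  refine ⟨N, ?_⟩
  set ū := u.map (algebraMap K N.carrier) with hū
  have hūdet : IsUnit ū.det := by
    have : ū.det = algebraMap K N.carrier u.det := (RingHom.map_det _ _).symm
    rw [this]; exact hdet.map _
  have hgh : g * (ū * gᵀ) = 1 := by rw [← Matrix.mul_assoc]; exact hg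
  have hhg : (ū * gᵀ) * g = 1 := mul_eq_one_comm.1 hgh
  have := isoInv_adj_of_conj g (ū * gᵀ) hgh hhg ū 1 hūdet (by rw [Matrix.det_one]; exact isUnit_one) hg
  rwa [adj_one] at this

theorem stage3_sympl (h2 : IsUnit (2 : K)) (q : PrimeSpectrum K)
    (u : Matrix (Fin n) (Fin n) K) (hs : uᵀ = -u) (hdet : IsUnit u.det) :
    ∃ m, n = 2 * m ∧ ∃ N : EtNbhd K q, IsoInv N.carrier (adj (u.map (algebraMap K N.carrier)))
      (adj (stdJ N.carrier m)) := by
  haveI : Nontrivial K := q.nontrivial
  have hdq : u.det ∉ q.asIdeal := fun h =>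
    q.isPrime.ne_top (Ideal.eq_top_of_isUnit_mem _ h hdet)
  -- n is even
  have heven : Even n := by
    by_contra hodd
    rw [Nat.not_even_iff_odd] at hodd
    have h1 : u.det = -u.det := by
      conv_lhs => rw [← Matrix.det_transpose, hs, Matrix.det_neg, Fintype.card_fin, hodd.neg_one_pow]
      ring
    have h2' : 2 * u.det = 0 := by
      calc 2 * u.det = u.det + u.det := by ring
        _ = u.det + -u.det := by rw [← h1]
        _ = 0 := by ring
    have h3 : u.det = 0 := (h2.mul_right_eq_zero).1 h2'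
    rw [h3] at hdet
    exact not_isUnit_zero hdet
  obtain ⟨m, hm⟩ := heven
  have hm' : n = 2 * m := by omega
  refine ⟨m, hm', ?_⟩
  obtain ⟨N, g, hg⟩ := exists_sympl_normal_form h2 q u hs hdq
    (show Fintype.card (Fin n) = 2 * m by rw [Fintype.card_fin]; exact hm')
  refine ⟨N, ?_⟩
  set ū := u.map (algebraMap K N.carrier) with hū
  have hūdet : IsUnit ū.det := by
    have : ū.det = algebraMap K N.carrier u.det := (RingHom.map_det _ _).symm
    rw [this]; exact hdet.map _
  have hJ : IsUnit (stdJ N.carrier m).det := isUnit_det_stdJ m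
  have hgh : g * (ū * gᵀ * (stdJ N.carrier m)⁻¹) = 1 := by
    rw [← Matrix.mul_assoc, ← Matrix.mul_assoc, hg, Matrix.mul_nonsing_inv _ hJ]
  have hcard : Fintype.card (Fin m × Fin 2) = Fintype.card (Fin n) := by
    rw [Fintype.card_prod, Fintype.card_fin, Fintype.card_fin, Fintype.card_fin]; omega
  have hhg : (ū * gᵀ * (stdJ N.carrier m)⁻¹) * g = 1 :=
    (Matrix.mul_eq_one_comm_of_card_eq _ _ _ hcard).1 hgh
  exact isoInv_adj_of_conj g _ hgh hhg ū _ hūdet hJ hg

end Stage3

section Stage2

variable {K : Type u} [CommRing K] {n : ℕ}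

/-- the local-form predicate -/
def LocalForm (n : ℕ) (K' : Type u) [CommRing K'] (u' : Matrix (Fin n) (Fin n) K') : Prop :=
  IsoInv K' (adj u') (transposeLin K' (Fin n)) ∨
    ∃ m, n = 2 * m ∧ IsoInv K' (adj u') (adj (stdJ K' m))

theorem exists_trans_mat {q : PrimeSpectrum K} (N : EtNbhd K q) (u : Matrix (Fin n) (Fin n) K)
    (P : ∀ (K' : Type u) [CommRing K'], Matrix (Fin n) (Fin n) K' → Prop)
    (h : ∃ N' : EtNbhd N.carrier N.pt, P N'.carrier
      ((u.map (algebraMap K N.carrier)).map (algebraMap N.carrier N'.carrier))) :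
    ∃ N'' : EtNbhd K q, P N''.carrier (u.map (algebraMap K N''.carrier)) := by
  obtain ⟨N', h⟩ := h
  refine ⟨N.trans N', ?_⟩
  have e : u.map (algebraMap K (N.trans N').carrier) =
      (u.map (algebraMap K N.carrier)).map (algebraMap N.carrier N'.carrier) := by
    ext a b; rfl
  rw [e]
  exact h

theorem stage2 (hn : 0 < n) (h2 : IsUnit (2 : K)) (q : PrimeSpectrum K)
    (u : Matrix (Fin n) (Fin n) K) (hdet : IsUnit u.det)
    (hinv : ∀ X, adj u (adj u X) = X) :
    ∃ N : EtNbhd K q, LocalForm n N.carrier (u.map (algebraMap K N.carrier)) := by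
  haveI : Nonempty (Fin n) := ⟨⟨0, hn⟩⟩
  obtain ⟨μ, hμ, hμ2⟩ := exists_sign u hdet hinv
  obtain ⟨c2, hc2⟩ := h2.exists_left_inv
  set ep : K := c2 * (1 + μ) with hep
  set em : K := c2 * (1 - μ) with hem
  have hsum : ep + em = 1 := by
    rw [hep, hem]
    calc c2 * (1 + μ) + c2 * (1 - μ) = c2 * 2 := by ring
      _ = 1 := hc2
  have hprod : ep * em = 0 := by
    rw [hep, hem]
    calc c2 * (1 + μ) * (c2 * (1 - μ)) = c2 * c2 * (1 - μ * μ) := by ring
      _ = 0 := by rw [hμ2, sub_self, mul_zero]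
  have hc2u : IsUnit c2 := IsUnit.of_mul_eq_one _ hc2
  by_cases hp : ep ∈ q.asIdeal
  · -- `em ∉ q`
    have hm : em ∉ q.asIdeal := by
      intro hm
      apply q.isPrime.ne_top
      rw [Ideal.eq_top_iff_one, ← hsum]
      exact q.asIdeal.add_mem hp hm
    obtain ⟨N, hN⟩ := EtNbhd.exists_away (q := q) em hm
    apply exists_trans_mat N u (fun K' _ u' => LocalForm n K' u')
    set φ := algebraMap K N.carrier with hφ
    have hep0 : φ ep = 0 := by
      have : φ ep * φ em = 0 := by rw [← map_mul, hprod, map_zero]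
      exact (hN.mul_left_eq_zero).1 this
    have hμN : φ μ = -1 := by
      have h1 : φ c2 * (1 + φ μ) = 0 := by
        rw [← hep0, hep, map_mul, map_add, map_one]
      have h2' : 1 + φ μ = 0 := ((hc2u.map φ).mul_right_eq_zero).1 h1
      linear_combination h2'
    have hs : (u.map φ)ᵀ = -(u.map φ) := by
      rw [← Matrix.transpose_map, hμ]
      ext a b
      simp [Matrix.map_apply, Matrix.smul_apply, hμN]
    have hd : IsUnit (u.map φ).det := by
      have : (u.map φ).det = φ u.det := (RingHom.map_det _ _).symm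
      rw [this]; exact hdet.map _
    obtain ⟨m, hm', N', hN'⟩ := stage3_sympl (N.isUnit_two h2) N.pt (u.map φ) hs hd
    exact ⟨N', Or.inr ⟨m, hm', hN'⟩⟩
  · obtain ⟨N, hN⟩ := EtNbhd.exists_away (q := q) ep hp
    apply exists_trans_mat N u (fun K' _ u' => LocalForm n K' u')
    set φ := algebraMap K N.carrier with hφ
    have hem0 : φ em = 0 := by
      have : φ ep * φ em = 0 := by rw [← map_mul, hprod, map_zero]
      exact (hN.mul_right_eq_zero).1 this
    have hμN : φ μ = 1 := by
      have h1 : φ c2 * (1 - φ μ) = 0 := by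
        rw [← hem0, hem, map_mul, map_sub, map_one]
      have h2' : 1 - φ μ = 0 := ((hc2u.map φ).mul_right_eq_zero).1 h1
      linear_combination -h2'
    have hs : (u.map φ)ᵀ = u.map φ := by
      rw [← Matrix.transpose_map, hμ]
      ext a b
      simp [Matrix.map_apply, Matrix.smul_apply, hμN]
    have hd : IsUnit (u.map φ).det := by
      have : (u.map φ).det = φ u.det := (RingHom.map_det _ _).symm
      rw [this]; exact hdet.map _
    obtain ⟨N', hN'⟩ := stage3_orth (N.isUnit_two h2) N.pt (u.map φ) hs hd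
    exact ⟨N', Or.inl hN'⟩

end Stage2

section CoreThm

variable {K : Type u} [CommRing K] {n : ℕ}

/-- An anti-involution of `Matrix (Fin n) (Fin n) K` becomes, on an étale neighbourhood of any
prime, isomorphic to the transpose or to the standard symplectic involution. -/
theorem core (hn : 0 < n) (h2 : IsUnit (2 : K)) (q : PrimeSpectrum K)
    (τ : Matrix (Fin n) (Fin n) K →ₗ[K] Matrix (Fin n) (Fin n) K)
    (hmul : ∀ X Y, τ (X * Y) = τ Y * τ X) (hinv : ∀ X, τ (τ X) = X) :
    ∃ N : EtNbhd K q,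
      IsoInv N.carrier (matExt N.carrier τ) (transposeLin N.carrier (Fin n)) ∨
      ∃ m, n = 2 * m ∧ IsoInv N.carrier (matExt N.carrier τ) (adj (stdJ N.carrier m)) := by
  haveI : Nonempty (Fin n) := ⟨⟨0, hn⟩⟩
  obtain ⟨u, hudet, hu⟩ := exists_intertwiner q τ hmul hinv
  have key : ∃ N : EtNbhd K q, IsUnit (u.map (algebraMap K N.carrier)).det ∧
      LocalForm n N.carrier (u.map (algebraMap K N.carrier)) := by
    obtain ⟨N₁, hN₁⟩ := EtNbhd.exists_away (q := q) u.det hudet
    apply exists_trans_mat N₁ u (fun K' _ u' => IsUnit u'.det ∧ LocalForm n K' u')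
    set φ := algebraMap K N₁.carrier with hφ
    have hd : IsUnit (u.map φ).det := by
      have : (u.map φ).det = φ u.det := (RingHom.map_det _ _).symm
      rw [this]; exact hN₁
    have hadj : matExt N₁.carrier τ = adj (u.map φ) := matExt_eq_adj τ u hu hN₁
    have hinv₁ : ∀ X, adj (u.map φ) (adj (u.map φ) X) = X := by
      intro X
      rw [← hadj]
      exact matExt_invol τ hinv X
    obtain ⟨N', hN'⟩ := stage2 hn (N₁.isUnit_two h2) N₁.pt (u.map φ) hd hinv₁
    refine ⟨N', ?_, hN'⟩
    have : ((u.map φ).map (algebraMap N₁.carrier N'.carrier)).det =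
        algebraMap N₁.carrier N'.carrier (u.map φ).det := (RingHom.map_det _ _).symm
    rw [this]; exact hd.map _
  obtain ⟨N, hNd, hN⟩ := key
  refine ⟨N, ?_⟩
  have hdet' : IsUnit (algebraMap K N.carrier u.det) := by
    have : (u.map (algebraMap K N.carrier)).det = algebraMap K N.carrier u.det :=
      (RingHom.map_det _ _).symm
    rw [← this]; exact hNd
  rw [matExt_eq_adj τ u hu hdet']
  exact hN

end CoreThm

end Groth.Agent.Lib.Helper1.AzInvLib
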