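import Mathlib
import Groth.Agent.S5720
import Groth.Agent.Lib.Helper1.AzInv.IsoInv

/-!
# An Azumaya algebra of degree `n` splits on an étale neighbourhood of any prime
-/

set_option autoImplicit false
set_option linter.style.haveILetI false
set_option linter.unusedSectionVars false

open TensorProduct

namespace Groth.Agent.Lib.Helper1.AzInvLib

universe u w

theorem exists_split_nbhd (R : Type u) [CommRing R] (X : Type w) [Ring X] [Algebra R X]
    [IsAzumaya R X] (n : ℕ) (hrk : ∀ p : PrimeSpectrum R, Module.rankAtStalk (R := R) X p = n ^ 2)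
    (p : PrimeSpectrum R) :
    ∃ N : EtNbhd R p,
      Nonempty (N.carrier ⊗[R] X ≃ₐ[N.carrier] Matrix (Fin n) (Fin n) N.carrier) := by
  haveI : Module.Finite R X := IsAzumaya.toFinite
  haveI : Module.Projective R X := IsAzumaya.toProjective
  haveI : Small.{u} X := Module.Finite.small.{u} R X
  let X' : Type u := Shrink.{u} X
  let eX : X' ≃ₐ[R] X := Shrink.algEquiv R X
  haveI : IsAzumaya R X' := IsAzumaya.of_AlgEquiv R X X' eX.symm
  obtain ⟨f, hf, R', iR', iA, iL, iT, hfin, het, hff, r, hr, ⟨e⟩⟩ :=
    Groth.Agent.S5720.result R X' p.asIdeal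
  haveI := het
  haveI := hff
  haveI : Algebra.Etale R (Localization.Away f) := Algebra.Etale.of_isLocalizationAway f
  haveI : Algebra.Etale R R' := Algebra.Etale.comp R (Localization.Away f) R'
  -- the prime
  have hdisj : Disjoint (Submonoid.powers f : Set R) (p.asIdeal : Set R) :=
    (Ideal.disjoint_powers_iff_notMem_of_isPrime _).2 hf
  let Q0 : Ideal (Localization.Away f) := Ideal.map (algebraMap R (Localization.Away f)) p.asIdeal
  have hQ0 : Q0.IsPrime :=
    IsLocalization.isPrime_of_isPrime_disjoint (Submonoid.powers f) (Localization.Away f) _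
      p.isPrime hdisj
  have hQ0u : Q0.comap (algebraMap R (Localization.Away f)) = p.asIdeal :=
    IsLocalization.under_map_of_isPrime_disjoint (Submonoid.powers f) (Localization.Away f)
      p.isPrime hdisj
  obtain ⟨q', hq'⟩ := PrimeSpectrum.comap_surjective_of_faithfullyFlat
    (A := Localization.Away f) (B := R') ⟨Q0, hQ0⟩
  have hq'p : PrimeSpectrum.comap (algebraMap R R') q' = p := by
    rw [IsScalarTower.algebraMap_eq R (Localization.Away f) R']
    change PrimeSpectrum.comap (algebraMap R (Localization.Away f))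
      (PrimeSpectrum.comap (algebraMap (Localization.Away f) R') q') = p
    rw [hq']
    exact PrimeSpectrum.ext hQ0u
  -- the rank
  have hrn : r = n := by
    have h1 : Module.rankAtStalk (R := R') (R' ⊗[R] X') q' = n ^ 2 := by
      rw [Module.rankAtStalk_baseChange, hq'p, Module.rankAtStalk_eq_of_equiv eX.toLinearEquiv, hrk]
    have h2 : Module.rankAtStalk (R := R') (R' ⊗[R] X') q' = r ^ 2 := by
      haveI : Nontrivial R' := q'.nontrivial
      rw [Module.rankAtStalk_eq_of_equiv e.toLinearEquiv, Module.rankAtStalk_eq_finrank_of_free]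
      simp [Module.finrank_matrix, sq]
    have h3 : r ^ 2 = n ^ 2 := h2.symm.trans h1
    exact Nat.pow_left_injective (by norm_num : 2 ≠ 0) h3
  subst hrn
  refine ⟨{ carrier := R', pt := q', hpt := hq'p }, ⟨?_⟩⟩
  exact (Algebra.TensorProduct.congr (AlgEquiv.refl : R' ≃ₐ[R'] R') eX.symm).trans e

end Groth.Agent.Lib.Helper1.AzInvLib
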