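import Mathlib
import Groth.Agent.Lib.Helper1.AzInv.Core
import Groth.Agent.Lib.Helper1.AzInv.Split
import Groth.Agent.Lib.Helper25.SymSkew

/-!
# Involutions of the first kind on Azumaya algebras over a connected base with `2` invertible
are étale-locally orthogonal or symplectic
-/

set_option autoImplicit false
set_option linter.style.haveILetI false
set_option linter.unusedSectionVars false

open TensorProduct Matrix

namespace Groth.Agent.Lib.Helper1.AzInvLib

universe u w

section SymplLin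

variable (R : Type*) [CommRing R] (m : ℕ)

/-- the involution of `M_m(M_2(R))` induced by the standard symplectic involution of `M_2(R)` -/
def symplLin : Matrix (Fin m) (Fin m) (Matrix (Fin 2) (Fin 2) R) →ₗ[R]
    Matrix (Fin m) (Fin m) (Matrix (Fin 2) (Fin 2) R) where
  toFun X := fun i j => !![X j i 1 1, - X j i 0 1; - X j i 1 0, X j i 0 0]
  map_add' X Y := by
    ext i j a b
    fin_cases a <;> fin_cases b <;> simp [Matrix.add_apply] <;> ring
  map_smul' c X := by
    ext i j a b
    fin_cases a <;> fin_cases b <;> simp [Matrix.smul_apply]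

theorem symplLin_apply (X : Matrix (Fin m) (Fin m) (Matrix (Fin 2) (Fin 2) R)) (i j : Fin m) :
    symplLin R m X i j = !![X j i 1 1, - X j i 0 1; - X j i 1 0, X j i 0 0] := rfl

theorem stdJ_inv : (stdJ R m)⁻¹ = -stdJ R m :=
  Matrix.inv_eq_right_inv (stdJ_mul_neg m)

/-- the symplectic involution corresponds to `adj stdJ` under `Matrix.compAlgEquiv` -/
theorem isoInv_symplLin : IsoInv R (symplLin R m) (adj (stdJ R m)) := by
  refine ⟨Matrix.compAlgEquiv (Fin m) (Fin 2) R R, fun X => ?_⟩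
  rw [adj_apply, stdJ_inv]
  ext ⟨i, a⟩ ⟨j, b⟩
  rw [Matrix.compAlgEquiv_apply, Matrix.comp_apply, symplLin_apply]
  rw [Matrix.mul_apply, Fintype.sum_prod_type]
  simp only [Matrix.mul_apply, Fintype.sum_prod_type, stdJ, Matrix.of_apply, Matrix.neg_apply,
    Matrix.transpose_apply, Matrix.compAlgEquiv_apply, Matrix.comp_apply]
  simp only [Fin.sum_univ_two, ite_mul, zero_mul, mul_ite, mul_zero, Finset.sum_ite_eq,
    Finset.sum_ite_eq', Finset.mem_univ, if_true, mul_neg, neg_zero]
  fin_cases a <;> fin_cases b <;> simp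

end SymplLin

section BaseChangeLemmas

variable {R : Type*} [CommRing R] {X : Type*} [Ring X] [Algebra R X]
  (K : Type*) [CommRing K] [Algebra R K]

theorem baseChange_antimul (σ : X →ₗ[R] X) (hmul : ∀ a b, σ (a * b) = σ b * σ a)
    (x y : K ⊗[R] X) : σ.baseChange K (x * y) = σ.baseChange K y * σ.baseChange K x := by
  induction x using TensorProduct.induction_on with
  | zero => simp
  | add x x' hx hx' => rw [add_mul, map_add, hx, hx', map_add, mul_add]
  | tmul s a =>
    induction y using TensorProduct.induction_on with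
    | zero => simp
    | add y y' hy hy' => rw [mul_add, map_add, hy, hy', map_add, add_mul]
    | tmul s' b =>
      rw [Algebra.TensorProduct.tmul_mul_tmul, LinearMap.baseChange_tmul,
        LinearMap.baseChange_tmul, LinearMap.baseChange_tmul,
        Algebra.TensorProduct.tmul_mul_tmul, hmul, mul_comm s s']

theorem baseChange_invol (σ : X →ₗ[R] X) (hinv : ∀ a, σ (σ a) = a) (x : K ⊗[R] X) :
    σ.baseChange K (σ.baseChange K x) = x := by
  induction x using TensorProduct.induction_on with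
  | zero => simp
  | add x x' hx hx' => rw [map_add, map_add, hx, hx']
  | tmul s a => rw [LinearMap.baseChange_tmul, LinearMap.baseChange_tmul, hinv]

end BaseChangeLemmas

section Local

variable (R : Type u) [CommRing R] (X : Type w) [Ring X] [Algebra R X]

/-- `(X, σ)` is of orthogonal type over `K` -/
def OrthOn (n : ℕ) (σ : X →ₗ[R] X) (K : Type u) [CommRing K] [Algebra R K] : Prop :=
  IsoInv K (σ.baseChange K) ((transposeLin R (Fin n)).baseChange K)

/-- `(X, σ)` is of symplectic type over `K` -/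
def SymplOn (m : ℕ) (σ : X →ₗ[R] X) (K : Type u) [CommRing K] [Algebra R K] : Prop :=
  IsoInv K (σ.baseChange K) ((adj (stdJ R m)).baseChange K)

variable {R X}

theorem local_form [IsAzumaya R X] (n : ℕ) (hn : 0 < n)
    (hrk : ∀ p : PrimeSpectrum R, Module.rankAtStalk (R := R) X p = n ^ 2)
    (h2 : IsUnit (2 : R)) (σ : X →ₗ[R] X) (hmul : ∀ a b, σ (a * b) = σ b * σ a)
    (hinv : ∀ a, σ (σ a) = a) (p : PrimeSpectrum R) :
    ∃ N : EtNbhd R p, OrthOn R X n σ N.carrier ∨ ∃ m, n = 2 * m ∧ SymplOn R X m σ N.carrier := by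
  obtain ⟨N₁, ⟨e₁⟩⟩ := exists_split_nbhd R X n hrk p
  let τ₁ : Matrix (Fin n) (Fin n) N₁.carrier →ₗ[N₁.carrier] Matrix (Fin n) (Fin n) N₁.carrier :=
    e₁.toLinearEquiv.toLinearMap ∘ₗ σ.baseChange N₁.carrier ∘ₗ e₁.symm.toLinearEquiv.toLinearMap
  have hτ₁ : ∀ Y, τ₁ Y = e₁ (σ.baseChange N₁.carrier (e₁.symm Y)) := fun Y => rfl
  have hτ₁' : ∀ x, e₁ (σ.baseChange N₁.carrier x) = τ₁ (e₁ x) := fun x => by
    rw [hτ₁, e₁.symm_apply_apply]
  have hmul₁ : ∀ Y Z, τ₁ (Y * Z) = τ₁ Z * τ₁ Y := by
    intro Y Z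
    rw [hτ₁, hτ₁, hτ₁, map_mul, baseChange_antimul N₁.carrier σ hmul, map_mul]
  have hinv₁ : ∀ Y, τ₁ (τ₁ Y) = Y := by
    intro Y
    rw [hτ₁, hτ₁, e₁.symm_apply_apply, baseChange_invol N₁.carrier σ hinv, e₁.apply_symm_apply]
  obtain ⟨N₂, hN₂⟩ := core hn (N₁.isUnit_two h2) N₁.pt τ₁ hmul₁ hinv₁
  letI : Algebra R N₂.carrier :=
    ((algebraMap N₁.carrier N₂.carrier).comp (algebraMap R N₁.carrier)).toAlgebra
  haveI : IsScalarTower R N₁.carrier N₂.carrier := IsScalarTower.of_algebraMap_eq fun _ => rfl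
  have h0 : IsoInv N₁.carrier (σ.baseChange N₁.carrier) τ₁ := ⟨e₁, hτ₁'⟩
  have chain : IsoInv N₂.carrier (σ.baseChange N₂.carrier) (matExt N₂.carrier τ₁) :=
    (isoInv_cancel R N₁.carrier N₂.carrier σ).symm.trans
      ((h0.baseChange N₂.carrier).trans (isoInv_matExt N₂.carrier τ₁))
  refine ⟨N₁.trans N₂, ?_⟩
  rcases hN₂ with h | ⟨m, hm, h⟩
  · left
    change IsoInv N₂.carrier (σ.baseChange N₂.carrier)
      ((transposeLin R (Fin n)).baseChange N₂.carrier)
    exact (chain.trans h).trans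
      (isoInv_of_isExt N₂.carrier (isExt_transposeLin (algebraMap R N₂.carrier))).symm
  · right
    refine ⟨m, hm, ?_⟩
    change IsoInv N₂.carrier (σ.baseChange N₂.carrier)
      ((adj (stdJ R m)).baseChange N₂.carrier)
    have hext : IsExt (algebraMap R N₂.carrier) (adj (stdJ R m)) (adj (stdJ N₂.carrier m)) := by
      have := isExt_adj (algebraMap R N₂.carrier) (stdJ R m) (isUnit_det_stdJ m)
      rwa [stdJ_map] at this
    exact (chain.trans h).trans (isoInv_of_isExt N₂.carrier hext).symm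

end Local

section Constancy

variable {R : Type u} [CommRing R] {X : Type w} [Ring X] [Algebra R X]

attribute [local instance] Algebra.TensorProduct.rightAlgebra

theorem nontrivial_tensor_of_nbhds {p : PrimeSpectrum R} (N N' : EtNbhd R p) :
    Nontrivial (N.carrier ⊗[R] N'.carrier) := by
  let k := p.asIdeal.ResidueField
  have h1 : Nontrivial (k ⊗[R] N.carrier) :=
    (PrimeSpectrum.nontrivial_iff_mem_rangeComap p).2 ⟨N.pt, N.hpt⟩
  have h2 : Nontrivial (k ⊗[R] N'.carrier) :=
    (PrimeSpectrum.nontrivial_iff_mem_rangeComap p).2 ⟨N'.pt, N'.hpt⟩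
  haveI : Module.FaithfullyFlat k (k ⊗[R] N.carrier) := inferInstance
  have h3 : Nontrivial ((k ⊗[R] N.carrier) ⊗[k] (k ⊗[R] N'.carrier)) :=
    Module.FaithfullyFlat.lTensor_nontrivial k (k ⊗[R] N.carrier) (k ⊗[R] N'.carrier)
  let f : N.carrier ⊗[R] N'.carrier →ₐ[R] (k ⊗[R] N.carrier) ⊗[k] (k ⊗[R] N'.carrier) :=
    Algebra.TensorProduct.lift
      ((Algebra.TensorProduct.includeLeft (R := k) (S := k) (A := k ⊗[R] N.carrier)
        (B := k ⊗[R] N'.carrier)).restrictScalars R |>.comp
        (Algebra.TensorProduct.includeRight (R := R) (A := k) (B := N.carrier)))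
      (((Algebra.TensorProduct.includeRight (R := k) (A := k ⊗[R] N.carrier)
        (B := k ⊗[R] N'.carrier)).restrictScalars R).comp
        (Algebra.TensorProduct.includeRight (R := R) (A := k) (B := N'.carrier)))
      (fun _ _ => Commute.all _ _)
  exact f.toRingHom.domain_nontrivial

theorem not_orth_and_sympl {n : ℕ} (hn : 0 < n) (h2 : IsUnit (2 : R)) (σ : X →ₗ[R] X)
    {p : PrimeSpectrum R} (N N' : EtNbhd R p) (m : ℕ)
    (h : OrthOn R X n σ N.carrier) (h' : SymplOn R X m σ N'.carrier) : False := by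
  let K := N.carrier ⊗[R] N'.carrier
  haveI : Nontrivial K := nontrivial_tensor_of_nbhds N N'
  have hK : OrthOn R X n σ K := isoInv_of_tower R N.carrier K h
  have hK' : SymplOn R X m σ K := isoInv_of_tower R N'.carrier K h'
  have h3 : IsoInv K ((transposeLin R (Fin n)).baseChange K) ((symplLin R m).baseChange K) :=
    (hK.symm.trans hK').trans ((isoInv_symplLin R m).baseChange K).symm
  obtain ⟨f, hf⟩ := h3
  have h2K : IsUnit (2 : K) := by
    have := h2.map (algebraMap R K)
    rwa [map_ofNat] at this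
  have := Groth.Agent.Lib.Helper25.SymSkew.main R K h2K n m (transposeLin R (Fin n))
    (fun M i j => rfl) (symplLin R m) (fun Y i j => rfl) f.toLinearEquiv hf
  omega

end Constancy

section MainThm

variable {R : Type u} [CommRing R] {X : Type w} [Ring X] [Algebra R X]

theorem main [ConnectedSpace (PrimeSpectrum R)] [IsAzumaya R X] (n : ℕ) (hn : 0 < n)
    (hrk : ∀ p : PrimeSpectrum R, Module.rankAtStalk (R := R) X p = n ^ 2)
    (h2 : IsUnit (2 : R)) (σ : X →ₗ[R] X) (hmul : ∀ a b, σ (a * b) = σ b * σ a)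
    (hinv : ∀ a, σ (σ a) = a) :
    (∃ (K : Type u) (_ : CommRing K) (_ : Algebra R K) (_ : Algebra.Etale R K)
      (_ : Module.FaithfullyFlat R K),
      IsoInv K (σ.baseChange K) ((transposeLin R (Fin n)).baseChange K)) ∨
    (∃ m, n = 2 * m ∧ ∃ (K : Type u) (_ : CommRing K) (_ : Algebra R K) (_ : Algebra.Etale R K)
      (_ : Module.FaithfullyFlat R K),
      IsoInv K (σ.baseChange K) ((symplLin R m).baseChange K)) := by
  let Up : Set (PrimeSpectrum R) := {p | ∃ N : EtNbhd R p, OrthOn R X n σ N.carrier}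
  let Um : Set (PrimeSpectrum R) :=
    {p | ∃ N : EtNbhd R p, ∃ m, n = 2 * m ∧ SymplOn R X m σ N.carrier}
  have hUp : IsOpen Up := by
    rw [isOpen_iff_forall_mem_open]
    rintro p ⟨N, hN⟩
    refine ⟨Set.range (PrimeSpectrum.comap (algebraMap R N.carrier)), ?_,
      isOpen_range_comap_of_etale R N.carrier, ⟨N.pt, N.hpt⟩⟩
    rintro _ ⟨q', rfl⟩
    exact ⟨{ carrier := N.carrier, pt := q', hpt := rfl }, hN⟩
  have hUm : IsOpen Um := by
    rw [isOpen_iff_forall_mem_open]
    rintro p ⟨N, hN⟩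
    refine ⟨Set.range (PrimeSpectrum.comap (algebraMap R N.carrier)), ?_,
      isOpen_range_comap_of_etale R N.carrier, ⟨N.pt, N.hpt⟩⟩
    rintro _ ⟨q', rfl⟩
    exact ⟨{ carrier := N.carrier, pt := q', hpt := rfl }, hN⟩
  have hcover : ∀ p, p ∈ Up ∨ p ∈ Um := by
    intro p
    obtain ⟨N, hN⟩ := local_form n hn hrk h2 σ hmul hinv p
    rcases hN with h | h
    · exact Or.inl ⟨N, h⟩
    · exact Or.inr ⟨N, h⟩
  have hdisj : ∀ p, p ∈ Up → p ∈ Um → False := by
    rintro p ⟨N, hN⟩ ⟨N', m, -, hN'⟩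
    exact not_orth_and_sympl hn h2 σ N N' m hN hN'
  have hcompl : Upᶜ = Um := by
    ext p
    constructor
    · intro hp
      exact (hcover p).resolve_left hp
    · intro hp hp'
      exact hdisj p hp' hp
  have hclopen : IsClopen Up := ⟨by rw [← isOpen_compl_iff, hcompl]; exact hUm, hUp⟩
  rcases isClopen_iff.1 hclopen with h | h
  · -- symplectic everywhere
    right
    have hall : ∀ p, p ∈ Um := fun p => by
      rw [← hcompl, h]; simp
    obtain ⟨p₀⟩ : Nonempty (PrimeSpectrum R) := inferInstance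
    obtain ⟨-, m, hm, -⟩ := hall p₀
    refine ⟨m, hm, ?_⟩
    obtain ⟨K, i1, i2, i3, i4, hK⟩ := exists_etale_cover_isoInv σ (adj (stdJ R m)) (fun p => by
      obtain ⟨N, m', hm', hN⟩ := hall p
      have : m' = m := by omega
      subst this
      exact ⟨N, hN⟩)
    exact ⟨K, i1, i2, i3, i4, hK.trans ((isoInv_symplLin R m).baseChange K).symm⟩
  · left
    have hall : ∀ p, p ∈ Up := fun p => by rw [h]; trivial
    exact exists_etale_cover_isoInv σ (transposeLin R (Fin n)) hall

end MainThm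

end Groth.Agent.Lib.Helper1.AzInvLib
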